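import Groth.Agent.SuppCx.CechExt
import Groth.Agent.LocCohTransform.CechTriangle
import Groth.Agent.CohBase.TensorQis
import Groth.Agent.DAlg.Classes
import Mathlib.Algebra.Homology.QuasiIso

/-!
Derived base change of `RΓ_I`.
-/

set_option autoImplicit false
set_option linter.unusedSectionVars false
set_option linter.style.haveILetI false

universe u

open CategoryTheory CategoryTheory.Limits TensorProduct Groth.LocCohTransform

attribute [local instance] HasDerivedCategory.standard

namespace Groth.SuppCx.CechExt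

variable {A B : Type u} [CommRing A] [CommRing B] (φ : A →+* B)

/-- Extension of scalars is tensoring. -/
noncomputable def restrictExtIso :
    ModuleCat.extendScalars.{u, u, u} φ ⋙ ModuleCat.restrictScalars.{u} φ ≅
      MonoidalCategory.tensorRight ((ModuleCat.restrictScalars.{u} φ).obj (ModuleCat.of B B)) :=
  NatIso.ofComponents (fun N => (TensorProduct.comm A ((ModuleCat.restrictScalars.{u} φ).obj (ModuleCat.of B B)) N).toModuleIso)
    (fun {N N'} g => by
      exact ModuleCat.hom_ext (TensorProduct.ext' fun b n => rfl))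

theorem quasiIso_extF {P C : DRing.Cx A} [∀ i, Module.Flat A (P.X i)] [∀ i, Module.Flat A (C.X i)] (b : ℤ)
    (hP : ∀ i, b < i → IsZero (P.X i)) (hC : ∀ i, b < i → IsZero (C.X i)) (q : P ⟶ C) [QuasiIso q] :
    QuasiIso ((extF φ).map q) := by
  let M := (ModuleCat.restrictScalars.{u} φ).obj (ModuleCat.of B B)
  have hT : ∀ j, b < j → ∀ N : ModuleCat.{u} A, IsZero (CohIII.T C j N) := fun j hj N =>
    (HomologicalComplex.exactAt_iff_isZero_homology _ _).1
      (ShortComplex.exact_of_isZero_X₂ _ (Functor.map_isZero (MonoidalCategory.tensorRight N) (hC j hj)))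
  haveI := Groth.CohBase.FiniteFree.quasiIso_tensor_of_eventually b hP hT q M
  rw [← HomologicalComplex.quasiIso_map_iff_of_preservesHomology ((extF φ).map q) (ModuleCat.restrictScalars.{u} φ)]
  exact quasiIso_of_arrow_mk_iso (((MonoidalCategory.tensorRight M).mapHomologicalComplex (ComplexShape.up ℤ)).map q) _
    (Arrow.isoMk ((NatIso.mapHomologicalComplex (restrictExtIso φ) (ComplexShape.up ℤ)).app P).symm
      ((NatIso.mapHomologicalComplex (restrictExtIso φ) (ComplexShape.up ℤ)).app C).symm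
      ((NatIso.mapHomologicalComplex (restrictExtIso φ) (ComplexShape.up ℤ)).inv.naturality q).symm)

/-- Derived base change of an extended Čech complex of a flat module. -/
theorem nonempty_lBaseChange_extCech [DRing.HasLBaseChange φ] (M : ModuleCat.{u} A) [Module.Flat A M]
    (fs : List A) :
    Nonempty ((DRing.LBaseChange φ).obj (DerivedCategory.Q.obj (DerCA.extCech M fs)) ≅
      DerivedCategory.Q.obj (DerCA.extCech ((ModuleCat.extendScalars.{u, u, u} φ).obj M) (fs.map φ))) := by
  let C := DerCA.extCech M fs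
  haveI : ∀ i, Module.Flat A (C.X i) := flat_X M fs
  have hb : ∀ i, (fs.length : ℤ) < i → Subsingleton (Dual.HD A (DerivedCategory.Q.obj C) i) := fun i hi =>
    ModuleCat.subsingleton_of_isZero (IsZero.of_iso
      ((HomologicalComplex.exactAt_iff_isZero_homology _ _).1
        (ShortComplex.exact_of_isZero_X₂ _ (isZero_X_of_lt M fs i hi)))
      ((DerivedCategory.homologyFunctorFactors _ i).app C))
  obtain ⟨P, q, hP, hq⟩ := PCohPunctual.exists_all_qis_to (Groth.DAlg.isAdditiveSub_allFree A)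
    (Groth.DAlg.isQuasiStable_allFree A) (Groth.DAlg.isQuasiLiftable_allFree A) (Groth.DAlg.isPC_allFree A hb)
  obtain ⟨⟨b, hb'⟩, hfree⟩ := hP
  haveI : ∀ i, Module.Free A (P.X i) := hfree
  haveI : ∀ i, Module.Flat A (P.X i) := fun i => inferInstance
  haveI := Groth.DAlg.isKProjective_of_bounded hb' (fun i => inferInstance)
  haveI := quasiIso_extF φ (max b fs.length) (fun i hi => hb' i (lt_of_le_of_lt (le_max_left _ _) hi))
    (fun i hi => isZero_X_of_lt M fs i (lt_of_le_of_lt (le_max_right _ _) hi)) q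
  obtain ⟨e⟩ := nonempty_extCech_iso φ M fs
  exact ⟨(DRing.LBaseChange φ).mapIso (asIso (DerivedCategory.Q.map q)).symm ≪≫
    Groth.DAlg.lBaseChangeIso φ P ≪≫ asIso (DerivedCategory.Q.map ((extF φ).map q)) ≪≫
    DerivedCategory.Q.mapIso e⟩

theorem isPowerTorsion_of_le_radical [IsNoetherianRing A] {I J : Ideal A} (h : J ≤ I.radical) {M : Type u}
    [AddCommGroup M] [Module A M] (hM : LocCoh.IsPowerTorsion I M) : LocCoh.IsPowerTorsion J M := fun m => by
  obtain ⟨n, hn⟩ := hM m
  obtain ⟨k, hk⟩ := Ideal.exists_pow_le_of_le_radical_of_fg h (IsNoetherian.noetherian J)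
  refine ⟨k * n, fun a ha => hn a ?_⟩
  rw [pow_mul] at ha
  exact Ideal.pow_right_mono hk n ha

/-- `RΓ_J(M)` by generators up to radical. -/
theorem nonempty_extCech_iso' [IsNoetherianRing A] (J : Ideal A) [DRing.HasRgammaI J] (fs : List A)
    (hmem : ∀ g ∈ fs, g ∈ J) (hrad : J ≤ (Ideal.span {x | x ∈ fs}).radical) (M : ModuleCat.{u} A) :
    Nonempty (DerivedCategory.Q.obj (DerCA.extCech M fs) ≅ (DRing.RgammaI J).obj (Dual.inD A M)) := by
  have hE : ∀ i, LocCoh.IsPowerTorsion J (Dual.HD A (DerivedCategory.Q.obj (DerCA.extCech M fs)) i) := fun i =>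
    isPowerTorsion_of_le_radical hrad (CechTriangle.isPowerTorsion_extCech _ fs rfl M i)
  have hX := RgammaTorsion.isPowerTorsion_rgamma J (Dual.inD A M)
  obtain ⟨u, hu⟩ := (RgammaTorsion.comp_ε_bijective J _ (Dual.inD A M) hE).2 (CechTriangle.aug M fs)
  obtain ⟨v, hv⟩ := (CechTriangle.comp_aug_bijective J hX fs hmem M).2 ((DRing.RgammaIε J).app (Dual.inD A M))
  refine ⟨⟨u, v, (CechTriangle.comp_aug_bijective J hE fs hmem M).1 ?_,
    (RgammaTorsion.comp_ε_bijective J _ (Dual.inD A M) hX).1 ?_⟩⟩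
  · show (u ≫ v) ≫ _ = 𝟙 _ ≫ _
    rw [Category.id_comp]
    exact (Category.assoc _ _ _).trans ((congrArg (u ≫ ·) hv).trans hu)
  · show (v ≫ u) ≫ _ = 𝟙 _ ≫ _
    rw [Category.id_comp]
    exact (Category.assoc _ _ _).trans ((congrArg (v ≫ ·) hu).trans hv)

/-- Derived base change of `RΓ_I(A)`. -/
theorem nonempty_lBaseChange_rgamma [IsNoetherianRing A] [IsNoetherianRing B] (I : Ideal A) (J : Ideal B)
    (h : I.map φ ≤ J) (h' : J ≤ (I.map φ).radical) [DRing.HasRgammaI I] [DRing.HasRgammaI J] [DRing.HasLBaseChange φ] :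
    Nonempty ((DRing.LBaseChange φ).obj ((DRing.RgammaI I).obj (Dual.inD A A)) ≅
      (DRing.RgammaI J).obj (Dual.inD B B)) := by
  classical
  obtain ⟨s, hs⟩ := IsNoetherian.noetherian I
  let fs := s.toList
  have hfs : Ideal.span {x | x ∈ fs} = I := by
    simp only [fs, Finset.mem_toList]
    exact hs
  have hfs' : Ideal.span {x | x ∈ fs.map φ} = I.map φ := by
    rw [← hfs, Ideal.map_span]
    congr 1
    ext x
    simp
  obtain ⟨e₁, -⟩ := CechTriangle.exists_extCech_iso I fs hfs (ModuleCat.of A A)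
  obtain ⟨e₂⟩ := nonempty_lBaseChange_extCech φ (ModuleCat.of A A) fs
  obtain ⟨e₃⟩ := nonempty_extCech_iso' J (fs.map φ)
    (fun g hg => h (hfs' ▸ Ideal.subset_span hg)) (hfs'.symm ▸ h')
    ((ModuleCat.extendScalars.{u, u, u} φ).obj (ModuleCat.of A A))
  let eB : (ModuleCat.extendScalars.{u, u, u} φ).obj (ModuleCat.of A A) ≅ ModuleCat.of B B :=
    letI := φ.toAlgebra
    (AlgebraTensorModule.rid A B B).toModuleIso
  exact ⟨(DRing.LBaseChange φ).mapIso e₁.symm ≪≫ e₂ ≪≫ e₃ ≪≫
    (DRing.RgammaI J).mapIso ((DerivedCategory.singleFunctor (ModuleCat.{u} B) 0).mapIso eB)⟩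

end Groth.SuppCx.CechExt
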