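import Groth.Agent.SuppCx.Theorems

/-!
The module forms.
-/

set_option autoImplicit false
set_option linter.unusedSectionVars false
set_option linter.style.haveILetI false

universe u

open CategoryTheory DerivedCategory Groth.LocCohTransform.SupportExt

attribute [local instance] HasDerivedCategory.standard

namespace Groth.SuppCx

variable {A : Type u} [CommRing A] [IsNoetherianRing A] {T : Set (PrimeSpectrum A)}
  {C : CochainComplex (ModuleCat.{u} A) ℤ} [C.IsKInjective] (hlow : ∀ n < (0 : ℤ), Subsingleton (C.X n))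
  {M : Type u} [AddCommGroup M] [Module A M] (e : Q.obj C ≅ Dual.inD A M)

include hlow e

theorem kills_HT_iff (s : ℕ) (J : Ideal A) :
    (∀ i : ℕ, i ≤ s → ∀ g ∈ J, ∀ x : Dual2.HT T i M, g • x = 0) ↔
      ∀ i : ℤ, i ≤ (s : ℤ) → ∀ g ∈ J, Kills C (gamC T C) g i := by
  have key : ∀ (i : ℕ) (g : A), (∀ x : Dual2.HT T i M, g • x = 0) ↔ Kills C (gamC T C) g (i : ℤ) := by
    intro i g
    obtain ⟨f⟩ := nonempty_HT_equiv (T := T) e i (sub_add_cancel (i : ℤ) 1) (k := (i : ℤ) + 1) rfl
    rw [kills_iff g (sub_add_cancel (i : ℤ) 1) rfl]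
    exact ⟨fun h z => f.symm.injective (by rw [map_smul, h, map_zero]),
      fun h y => f.injective (by rw [map_smul, h, map_zero])⟩
  constructor
  · intro h i hi g hg
    rcases lt_or_ge i 0 with hneg | hnn
    · haveI := hlow i hneg
      exact kills_of_low g i
    · obtain ⟨i, rfl⟩ := Int.eq_ofNat_of_zero_le hnn
      exact (key i g).1 (h i (by omega) g hg)
  · exact fun h i hi g hg => (key i g).2 (h i (by omega) g hg)

theorem finite_HT_iff (s : ℕ) :
    (∀ i : ℕ, i ≤ s → Module.Finite A (Dual2.HT T i M)) ↔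
      ∀ i : ℤ, i ≤ (s : ℤ) → Module.Finite A (Hc C (gamC T C) (i - 1) i (i + 1)) := by
  constructor
  · intro h i hi
    rcases lt_or_ge i 0 with hneg | hnn
    · haveI := hlow i hneg
      infer_instance
    · obtain ⟨i, rfl⟩ := Int.eq_ofNat_of_zero_le hnn
      obtain ⟨f⟩ := nonempty_HT_equiv (T := T) e i (sub_add_cancel (i : ℤ) 1) (k := (i : ℤ) + 1) rfl
      haveI := h i (by omega)
      exact Module.Finite.equiv f
  · intro h i hi
    obtain ⟨f⟩ := nonempty_HT_equiv (T := T) e i (sub_add_cancel (i : ℤ) 1) (k := (i : ℤ) + 1) rfl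
    haveI := h i (by omega)
    exact Module.Finite.equiv f.symm

end Groth.SuppCx
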