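import Groth.Agent.DualCore.AtPrime
import Groth.Agent.DualCore.Depth
import Mathlib.Order.KrullDimension
import Mathlib.RingTheory.Ideal.Height
import Mathlib.RingTheory.Spectrum.Prime.Topology

/-!
The degree function of a dualizing complex and lengths of chains of primes; depth by the degree.
-/

set_option autoImplicit false
set_option linter.unusedSectionVars false
set_option linter.style.haveILetI false

universe u

open CategoryTheory CategoryTheory.Limits DerivedCategory

attribute [local instance] HasDerivedCategory.standard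

namespace Groth.SuppCx

open Groth.DualCore

variable {A : Type u} [CommRing A] [IsNoetherianRing A]

theorem exists_covBy_le {p q : PrimeSpectrum A} (h : p < q) : ∃ x, p ≤ x ∧ x ⋖ q := by
  have hwf : WellFounded fun x y : PrimeSpectrum A => y < x :=
    InvImage.wf PrimeSpectrum.asIdeal (IsWellFounded.wf : WellFounded fun I J : Ideal A => J < I)
  obtain ⟨x, ⟨hpx, hxq⟩, hx⟩ := hwf.has_min {x | p ≤ x ∧ x < q} ⟨p, le_rfl, h⟩
  exact ⟨x, hpx, hxq, fun y hxy hyq => hx y ⟨hpx.trans hxy.le, hyq⟩ hxy⟩

variable {ω : Dual.D A} (hω : Dual.IsDualizing A ω)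

include hω

/-- The degree is strictly increasing, and chains realise the difference. -/
theorem exists_chain_degree (q : PrimeSpectrum A) : ∀ p : PrimeSpectrum A, p ≤ q →
    ∃ D : ℕ, degree hω q = degree hω p + D ∧ ∃ s : LTSeries (PrimeSpectrum A),
      s.head = p ∧ s.last = q ∧ s.length = D := by
  haveI : IsWellFounded (PrimeSpectrum A) (fun x y => x < y) := by
    refine ⟨Subrelation.wf (r := InvImage (fun a b : ℕ∞ => a < b) fun x : PrimeSpectrum A => x.asIdeal.height)
      (fun {x y} hxy => ?_) (InvImage.wf _ wellFounded_lt)⟩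
    exact Ideal.height_strict_mono_of_isPrime_of_isPrime hxy
  induction q using WellFounded.induction (IsWellFounded.wf (r := fun x y : PrimeSpectrum A => x < y)) with
  | _ q ih =>
    intro p hp
    rcases hp.eq_or_lt with rfl | hlt
    · exact ⟨0, by simp, RelSeries.singleton _ p, rfl, rfl, rfl⟩
    · obtain ⟨x, hpx, hxq⟩ := exists_covBy_le hlt
      obtain ⟨D, hD, s, hs1, hs2, hs3⟩ := ih x hxq.lt p hpx
      have := degree_covBy hω x q hxq
      refine ⟨D + 1, by push_cast; omega, s.snoc q (hs2 ▸ hxq.lt), ?_, ?_, ?_⟩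
      · rw [RelSeries.head_snoc, hs1]
      · rw [RelSeries.last_snoc]
      · rw [RelSeries.snoc_length, hs3]

theorem degree_lt {p q : PrimeSpectrum A} (h : p < q) : degree hω p < degree hω q := by
  obtain ⟨x, hpx, hxq⟩ := exists_covBy_le h
  obtain ⟨D, hD, -⟩ := exists_chain_degree hω x p hpx
  have := degree_covBy hω x q hxq
  omega

/-- The longest chain from `p` to `q` has length the difference of the degrees. -/
theorem height_Ici_eq {p q : PrimeSpectrum A} (h : p ≤ q) :
    ∃ D : ℕ, degree hω q = degree hω p + D ∧ Order.height (⟨q, h⟩ : Set.Ici p) = D := by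
  obtain ⟨D, hD, s, hs1, hs2, hs3⟩ := exists_chain_degree hω q p h
  refine ⟨D, hD, le_antisymm ?_ ?_⟩
  · refine Order.height_le_iff.2 fun t ht => ?_
    let f : Set.Ici p → ℕ := fun z => (degree hω z.1 - degree hω p).toNat
    have hf : StrictMono f := fun a b hab => by
      obtain ⟨D', hD', -⟩ := exists_chain_degree hω a.1 p a.2
      have := degree_lt hω hab
      show (degree hω a.1 - degree hω p).toNat < (degree hω b.1 - degree hω p).toNat
      omega
    have h1 := LTSeries.head_add_length_le_nat (t.map f hf)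
    have h2 : f t.last ≤ D := by
      rcases ht.eq_or_lt with e | hlt
      · show (degree hω t.last.1 - degree hω p).toNat ≤ D
        rw [show t.last.1 = q from congrArg Subtype.val e]
        omega
      · have h3 : degree hω t.last.1 < degree hω q := degree_lt hω hlt
        show (degree hω t.last.1 - degree hω p).toNat ≤ D
        omega
    rw [LTSeries.last_map] at h1
    have h4 : (t.map f hf).length = t.length := rfl
    exact_mod_cast (show t.length ≤ D by omega)
  · have hmem : ∀ i, p ≤ s i := fun i => hs1 ▸ s.head_le i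
    let t : LTSeries (Set.Ici p) :=
      { length := s.length, toFun := fun i => ⟨s i, hmem i⟩, step := fun i => s.step i }
    have := Order.length_le_height (p := t) (x := (⟨q, h⟩ : Set.Ici p)) hs2.le
    rw [← hs3]
    exact this

theorem exists_degree_bounds : ∃ d₁ d₂ : ℤ, ∀ p : PrimeSpectrum A, d₁ ≤ degree hω p ∧ degree hω p ≤ d₂ := by
  obtain ⟨a, b, hab⟩ := hω.finite_injective_dimension
  refine ⟨a, b, fun p => ?_⟩
  by_contra hc
  haveI := hab (A ⧸ p.asIdeal) (degree hω p) (by omega)
  haveI := (degree_iff hω p (degree hω p)).2 rfl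
  exact not_subsingleton (LocalizedModule p.asIdeal.primeCompl
    (Dual.inD A (A ⧸ p.asIdeal) ⟶ ω⟦degree hω p⟧)) inferInstance

/-- Depth of a localization through the degree. -/
theorem le_depth_localized_iff (M : Type u) [AddCommGroup M] [Module A M] [Module.Finite A M]
    (p : PrimeSpectrum A) (k : ℕ) :
    (k : ℕ∞) ≤ LocCoh.depth (Localization.AtPrime p.asIdeal) (LocalizedModule p.asIdeal.primeCompl M) ↔
      ∀ δ : ℕ, δ < k → ∀ x : Dual.inD A M ⟶ ω⟦degree hω p - δ⟧, ∃ t ∉ p.asIdeal, t • x = 0 := by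
  let B := Localization.AtPrime p.asIdeal
  haveI : IsNoetherianRing B := IsLocalization.isNoetherianRing p.asIdeal.primeCompl _ inferInstance
  let N := LocalizedModule p.asIdeal.primeCompl M
  haveI : Module.Finite B N := Module.Finite.of_isLocalizedModule p.asIdeal.primeCompl
    (LocalizedModule.mkLinearMap p.asIdeal.primeCompl M)
  let ω' := ((extD A B).obj ω)⟦degree hω p⟧
  have hω' : Dual.IsDualizing B ω' := isDualizing_shift (isDualizing_atPrime p.asIdeal hω) _
  have hn : Dual.IsNormalized B ω' := isNormalized_degree hω p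
  haveI : IsLocalizedModule p.asIdeal.primeCompl (TensorProduct.mk A B M 1) :=
    (isLocalizedModule_iff_isBaseChange p.asIdeal.primeCompl B _).2 (TensorProduct.isBaseChange A M _)
  let eN : N ≃ₗ[B] TensorProduct A B M :=
    (IsLocalizedModule.linearEquiv p.asIdeal.primeCompl
      (LocalizedModule.mkLinearMap p.asIdeal.primeCompl M) (TensorProduct.mk A B M 1)).extendScalarsOfIsLocalization
        p.asIdeal.primeCompl B
  have hloc : ∀ δ : ℕ, Subsingleton (Dual.inD B N ⟶ ω'⟦(-(δ : ℤ))⟧) ↔
      ∀ x : Dual.inD A M ⟶ ω⟦degree hω p - δ⟧, ∃ t ∉ p.asIdeal, t • x = 0 := by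
    intro δ
    rw [← not_nontrivial_iff_subsingleton,
      nontrivial_shift_iff _ _ (degree hω p) (degree hω p - δ) _ (sub_eq_add_neg _ _).symm,
      (Linear.homCongr B ((singleFunctor (ModuleCat.{u} B) 0).mapIso eN.toModuleIso)
        (Iso.refl (((extD A B).obj ω)⟦degree hω p - (δ : ℤ)⟧))).toEquiv.nontrivial_congr,
      ← nontrivial_localized_hom_iff p.asIdeal hω M, not_nontrivial_iff_subsingleton,
      LocalizedModule.subsingleton_iff]
    exact ⟨fun h x => by obtain ⟨t, ht, h'⟩ := h x; exact ⟨t, ht, h'⟩,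
      fun h x => by obtain ⟨t, ht, h'⟩ := h x; exact ⟨t, ht, h'⟩⟩
  rcases subsingleton_or_nontrivial N with hN | hN
  · refine iff_of_true ?_ fun δ _ => (hloc δ).1 ?_
    · unfold LocCoh.depth LocCoh.idealDepth
      rw [if_pos (Subsingleton.elim _ _)]
      exact le_top
    · obtain ⟨a, ha⟩ := exists_isGE hω'
      exact subsingleton_hom_of_subsingleton ω' N _
  · obtain ⟨n, hdep⟩ : ∃ n : ℕ, LocCoh.depth B N = n := by
      obtain ⟨a, ha⟩ := exists_isGE hω'
      obtain ⟨d, hd⟩ := exists_supportDim_eq B N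
      obtain ⟨m, -, hm, rs, hlen, hreg, hmem⟩ :=
        exists_depth_witness ω' a hω'.finite_cohomology hn (nontrivial_end hω') d N hd.le
      refine ⟨m, (depth_eq_iff hω' hn N m).2 ⟨fun δ hδ => ?_, hm⟩⟩
      exact subsingleton_hom_of_regular ω' a hω'.finite_cohomology hn rs N hreg hmem _ (by lia)
    obtain ⟨h1, h2⟩ := (depth_eq_iff hω' hn N n).1 hdep
    show (k : ℕ∞) ≤ LocCoh.depth B N ↔ _
    rw [hdep, Nat.cast_le]
    refine ⟨fun hk δ hδ => (hloc δ).1 (h1 δ (by omega)), fun h => ?_⟩
    by_contra hlt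
    exact not_subsingleton _ ((hloc n).2 (h n (by omega)))

omit hω [IsNoetherianRing A] in
/-- Chains between `p` and `q`. -/
theorem krullDim_Icc {p q : PrimeSpectrum A} (h : p ≤ q) :
    Order.krullDim (Set.Icc p q) = ((Order.height (⟨q, h⟩ : Set.Ici p) : ℕ∞) : WithBot ℕ∞) := by
  rw [Order.height_eq_krullDim_Iic]
  refine Order.krullDim_eq_of_orderIso ⟨⟨fun z => ⟨⟨z.1, z.2.1⟩, z.2.2⟩, fun z => ⟨z.1.1, z.1.2, z.2⟩,
    fun _ => rfl, fun _ => rfl⟩, Iff.rfl⟩

end Groth.SuppCx
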