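import Groth.Agent.LocCohTransform.SupportExt
import Groth.Agent.LocCohBase.Cd
import Groth.Agent.LocCohBase.Depth

/-!
Sections supported in a family of closed subsets of an injective module; the torsion free quotient.
-/

set_option autoImplicit false
set_option linter.unusedSectionVars false
set_option linter.style.haveILetI false

universe u

open CategoryTheory Groth.LocCohTransform.SupportExt

namespace Groth.SuppCx

variable {A : Type u} [CommRing A] {T : Set (PrimeSpectrum A)}

/-- An element carried into the sections supported in `T` by an ideal supported in `T` is supported in `T`. -/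
theorem mem_gam_of_smul_mem {J : Ideal A} (hJ : PrimeSpectrum.zeroLocus (J : Set A) ⊆ T)
    {X : Type u} [AddCommGroup X] [Module A X] {x : X} (hx : ∀ a ∈ J, a • x ∈ Gam T X) : x ∈ Gam T X := by
  intro p hp
  obtain ⟨a, ha, hap⟩ := SetLike.not_le_iff_exists.1
    (show ¬ J ≤ p.asIdeal from fun h => hp (hJ h))
  obtain ⟨t, ht, h⟩ := hx a ha p hp
  exact ⟨t * a, p.asIdeal.primeCompl.mul_mem ht hap, by rw [mul_smul, h]⟩

theorem zeroLocus_prime_subset (hT : StableUnderSpecialization T) {q : PrimeSpectrum A} (hq : q ∈ T) :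
    PrimeSpectrum.zeroLocus (q.asIdeal : Set A) ⊆ T := fun p hp =>
  hT ((PrimeSpectrum.le_iff_specializes q p).1 hp) hq

theorem torsionSub_le_gam {J : Ideal A} (hJ : PrimeSpectrum.zeroLocus (J : Set A) ⊆ T)
    (X : Type u) [AddCommGroup X] [Module A X] : DRing.torsionSub J X ≤ Gam T X := fun x hx => by
  obtain ⟨n, hn⟩ := hx
  exact mem_gam_of_killed (J := J ^ n) (fun p hp => hJ (Ideal.IsPrime.le_of_pow_le hp)) hn

variable [IsNoetherianRing A]

theorem injective_gam_set (T : Set (PrimeSpectrum A)) (X : Type u) [AddCommGroup X] [Module A X]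
    [Module.Injective A X] : Module.Injective A (Gam T X) := by
  classical
  apply Module.Baer.injective
  intro I φ
  let ψ : I →ₗ[A] X := (Gam T X).subtype ∘ₗ φ
  have hψ : ψ ∈ Gam T (I →ₗ[A] X) := by
    intro p hp
    obtain ⟨s, hs⟩ := (IsNoetherian.noetherian (⊤ : Submodule A I) : _)
    choose t ht htx using fun x : I => (φ x).2 p hp
    refine ⟨∏ x ∈ s, t x, fun h => ?_, LinearMap.ext fun y => ?_⟩
    · obtain ⟨x, -, h'⟩ := Ideal.IsPrime.prod_mem_iff.1 h
      exact ht x h'
    · have hy : y ∈ Submodule.span A (s : Set I) := hs ▸ Submodule.mem_top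
      induction hy using Submodule.span_induction with
      | mem z hz =>
        obtain ⟨c, hc⟩ := Finset.dvd_prod_of_mem t hz
        show (∏ x ∈ s, t x) • ψ z = 0
        rw [hc, mul_comm, mul_smul]
        show c • t z • (φ z : X) = 0
        rw [htx z, smul_zero]
      | zero => simp
      | add a b _ _ ha hb => rw [map_add, ha, hb, map_add]
      | smul r a _ ha => rw [map_smul, ha, map_smul]
  let J : Ideal A := LinearMap.ker (LinearMap.toSpanSingleton A (I →ₗ[A] X) ψ)
  have hJ : PrimeSpectrum.zeroLocus (J : Set A) ⊆ T := zeroLocus_ann_subset hψ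
  have hmem : ∀ x, ψ x ∈ DRing.torsionSub J X := fun x =>
    ⟨1, fun a ha => by
      rw [pow_one] at ha
      exact LinearMap.congr_fun (show a • ψ = 0 from ha) x⟩
  haveI := Groth.LocCohBase.injective_torsionSub J X
  obtain ⟨g, hg⟩ := Module.Baer.of_injective (R := A) (Q := DRing.torsionSub J X) inferInstance I
    (ψ.codRestrict (DRing.torsionSub J X) hmem)
  exact ⟨Submodule.inclusion (torsionSub_le_gam hJ X) ∘ₗ g,
    fun x hx => Subtype.ext (congrArg Subtype.val (hg x hx) :)⟩

/-- The quotient of an injective module by its sections supported in `T` is injective. -/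
theorem injective_quotient_gam (T : Set (PrimeSpectrum A)) (X : Type u) [AddCommGroup X] [Module A X]
    [hX : Module.Injective A X] : Module.Injective A (X ⧸ Gam T X) := by
  obtain ⟨C, hC⟩ := GrothMatlis.exists_isCompl_of_injective_submodule (injective_gam_set T X)
  have hCinj := GrothMatlis.injective_of_isCompl hX hC.symm
  exact Module.Baer.injective
    ((Module.Baer.of_injective hCinj).of_equiv (Submodule.quotientEquivOfIsCompl _ C hC).symm)

/-- An element of the torsion free quotient killed by an ideal supported in `T` vanishes. -/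
theorem eq_zero_of_smul_quotient {J : Ideal A} (hJ : PrimeSpectrum.zeroLocus (J : Set A) ⊆ T)
    {X : Type u} [AddCommGroup X] [Module A X] {x : X ⧸ Gam T X} (hx : ∀ a ∈ J, a • x = 0) : x = 0 := by
  obtain ⟨x, rfl⟩ := Submodule.Quotient.mk_surjective _ x
  rw [Submodule.Quotient.mk_eq_zero]
  refine mem_gam_of_smul_mem hJ fun a ha => ?_
  rw [← Submodule.Quotient.mk_eq_zero, Submodule.Quotient.mk_smul]
  exact hx a ha

theorem subsingleton_ext_zero {J : Ideal A} {X : Type u} [AddCommGroup X] [Module A X]
    (h : ∀ x : X, (∀ a ∈ J, a • x = 0) → x = 0) :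
    Subsingleton (Abelian.Ext (ModuleCat.of A (A ⧸ J)) (ModuleCat.of A X) 0) := by
  haveI : Subsingleton (ModuleCat.of A (A ⧸ J) ⟶ ModuleCat.of A X) := by
    refine ⟨fun f g => sub_eq_zero.1 (ModuleCat.hom_ext (Submodule.linearMap_qext _
      (LinearMap.ext_ring (h ((f - g).hom (Submodule.Quotient.mk 1)) fun a ha => ?_))))⟩
    rw [← map_smul, ← Submodule.Quotient.mk_smul, smul_eq_mul, mul_one,
      (Submodule.Quotient.mk_eq_zero J).2 ha, map_zero]
  exact Abelian.Ext.homEquiv₀.subsingleton

/-- Depth two of a submodule of an injective module without sections killed by `J`. -/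
theorem two_le_idealDepth {J : Ideal A} {E : Type u} [AddCommGroup E] [Module A E] [Module.Injective A E]
    (Q : Submodule A E) [Module.Finite A Q] (hE : ∀ x : E, (∀ a ∈ J, a • x = 0) → x = 0)
    (hQ : ∀ x : E, (∀ a ∈ J, a • x ∈ Q) → x ∈ Q) : (2 : ℕ∞) ≤ LocCoh.idealDepth J Q := by
  let S : ShortComplex (ModuleCat.{u} A) :=
    ShortComplex.mk (ModuleCat.ofHom Q.subtype) (ModuleCat.ofHom Q.mkQ)
      (by ext x; exact (Submodule.Quotient.mk_eq_zero Q).2 x.2)
  have hS : S.ShortExact :=
    { exact := by
        rw [ShortComplex.ShortExact.moduleCat_exact_iff_function_exact]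
        exact LinearMap.exact_subtype_mkQ Q
      mono_f := (ModuleCat.mono_iff_injective _).2 Subtype.val_injective
      epi_g := (ModuleCat.epi_iff_surjective _).2 (Submodule.mkQ_surjective Q) }
  haveI : Injective (ModuleCat.of A E) := Module.injective_object_of_injective_module A E
  refine (Groth.LocCohBase.le_idealDepth_iff J Q 2).2 fun i hi => ?_
  rcases (by omega : i = 0 ∨ i = 1) with rfl | rfl
  · exact subsingleton_ext_zero fun x hx => Subtype.ext (hE x fun a ha => congrArg Subtype.val (hx a ha))
  · refine Groth.LocCohBase.ext_subsingleton_X₁ hS (ModuleCat.of A (A ⧸ J)) 0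
      (subsingleton_ext_zero fun x hx => ?_) ?_
    · obtain ⟨x, rfl⟩ := Submodule.Quotient.mk_surjective _ x
      rw [Submodule.Quotient.mk_eq_zero]
      refine hQ x fun a ha => ?_
      rw [← Submodule.Quotient.mk_eq_zero, Submodule.Quotient.mk_smul]
      exact hx a ha
    · exact subsingleton_of_forall_eq 0 fun x => Abelian.Ext.eq_zero_of_injective x

end Groth.SuppCx
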