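import Groth.Agent.SuppCx.Criterion

/-!
The annihilator and finiteness theorems with a dualizing complex.
-/

set_option autoImplicit false
set_option linter.unusedSectionVars false
set_option linter.style.haveILetI false

universe u

open CategoryTheory CategoryTheory.Limits DerivedCategory Groth.LocCohTransform.SupportExt Groth.DualCore

attribute [local instance] HasDerivedCategory.standard

namespace Groth.SuppCx

/-- `HDI` of isomorphic objects. -/
noncomputable def HDICongr {R : Type u} [CommRing R] (I : Ideal R) {K K' : Dual.D R} (e : K ≅ K') (i : ℤ) :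
    Dual2.HDI R I K i ≃ₗ[R] Dual2.HDI R I K' i :=
  (Limits.HasColimit.isoOfNatIso (Functor.isoWhiskerLeft _
    ((linearYoneda R (Dual.D R)).mapIso ((shiftFunctor (Dual.D R) i).mapIso e)))).toLinearEquiv

variable {A : Type u} [CommRing A] [IsNoetherianRing A] {T T' : Set (PrimeSpectrum A)}

theorem smul_HDT_iff {C : CochainComplex (ModuleCat.{u} A) ℤ} [C.IsKInjective] {K : Dual.D A}
    (e : Q.obj C ≅ K) (i : ℤ) (g : A) :
    (∀ y : Dual2.HDT A T K i, g • y = 0) ↔ Kills C (gamC T C) g i := by
  obtain ⟨f⟩ := nonempty_HDT_equiv (T := T) e (sub_add_cancel i 1) (k := i + 1) rfl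
  rw [kills_iff g (sub_add_cancel i 1) rfl]
  exact ⟨fun h z => f.symm.injective (by rw [map_smul, h, map_zero]),
    fun h y => f.injective (by rw [map_smul, h, map_zero])⟩

theorem finite_HDT_iff {C : CochainComplex (ModuleCat.{u} A) ℤ} [C.IsKInjective] {K : Dual.D A}
    (e : Q.obj C ≅ K) (i : ℤ) :
    Module.Finite A (Dual2.HDT A T K i) ↔ Module.Finite A (Hc C (gamC T C) (i - 1) i (i + 1)) := by
  obtain ⟨f⟩ := nonempty_HDT_equiv (T := T) e (sub_add_cancel i 1) (k := i + 1) rfl
  exact ⟨fun h => Module.Finite.equiv f, fun h => Module.Finite.equiv f.symm⟩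

theorem finite_Hc_top {C : CochainComplex (ModuleCat.{u} A) ℤ} {K : Dual.D A} (e : Q.obj C ≅ K)
    (hK : ∀ j, Module.Finite A (Dual.HD A K j)) (j : ℤ) :
    Module.Finite A (Hc C (topC C) j (j + 1) (j + 1 + 1)) := by
  obtain ⟨f⟩ := nonempty_HD_equiv (C := C) e (j := j) (i := j + 1) (k := j + 1 + 1) rfl rfl
  haveI := hK (j + 1)
  exact Module.Finite.equiv f

section Dualizing

variable {ω : Dual.D A} (hω : Dual.IsDualizing A ω)

include hω

/-- Vanishing of local cohomology at `p` below `s - h`. -/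
theorem crit_iff_vanishing {C : CochainComplex (ModuleCat.{u} A) ℤ}
    (hC : ∀ n, Module.Injective A (C.X n)) {a : ℤ} (hlow : ∀ n < a, Subsingleton (C.X n)) {K : Dual.D A}
    (e : Q.obj C ≅ K) (hK : ∀ j, Module.Finite A (Dual.HD A K j))
    [∀ p : PrimeSpectrum A, DRing.HasLBaseChange (algebraMap A (Localization.AtPrime p.asIdeal))]
    (s : ℤ) :
    (∀ p q : PrimeSpectrum A, p ≤ q → p ∉ T' → q ∈ T → ∀ i : ℤ, i ≤ s →
        ∀ x : K ⟶ ω⟦degree hω q - i⟧, ∃ t ∉ p.asIdeal, t • x = 0) ↔
      ∀ (p q : PrimeSpectrum A) (hpq : p ≤ q), p ∉ T' → q ∈ T → ∀ h : ℕ,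
        Order.height (⟨q, hpq⟩ : Set.Ici p) = h → ∀ i : ℤ, i ≤ s - h →
          Subsingleton (Dual2.HDI (Localization.AtPrime p.asIdeal)
            (IsLocalRing.maximalIdeal (Localization.AtPrime p.asIdeal))
            ((DRing.LBaseChange (algebraMap A (Localization.AtPrime p.asIdeal))).obj K) i) := by
  have key : ∀ (p : PrimeSpectrum A) (i : ℤ), Subsingleton (Dual2.HDI (Localization.AtPrime p.asIdeal)
      (IsLocalRing.maximalIdeal (Localization.AtPrime p.asIdeal))
      ((DRing.LBaseChange (algebraMap A (Localization.AtPrime p.asIdeal))).obj K) i) ↔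
      ∀ x : K ⟶ ω⟦degree hω p - i⟧, ∃ t ∉ p.asIdeal, t • x = 0 := by
    intro p i
    rw [((HDICongr _ ((LBaseChangeIso A (Localization.AtPrime p.asIdeal)).app K) i).toEquiv).subsingleton_congr]
    have h := smul_HDI_eq_zero_iff hω hC hlow e hK p i 1
    simp only [map_one, one_smul, mul_one] at h
    rw [← h]
    exact ⟨fun _ y => Subsingleton.elim _ _, fun hy => ⟨fun x y => (hy x).trans (hy y).symm⟩⟩
  constructor
  · intro H p q hpq hp hq h hh i hi
    obtain ⟨D, hD, hD'⟩ := height_Ici_eq hω hpq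
    obtain rfl : D = h := by exact_mod_cast hD'.symm.trans hh
    refine (key p i).2 ?_
    have h1 := H p q hpq hp hq (i + D) (by omega)
    rw [show degree hω q - (i + D) = degree hω p - i by omega] at h1
    exact h1
  · intro H p q hpq hp hq i hi
    obtain ⟨D, hD, hD'⟩ := height_Ici_eq hω hpq
    have h1 := (key p (i - D)).1 (H p q hpq hp hq D hD' (i - D) (by omega))
    rw [show degree hω p - (i - D) = degree hω q - i by omega] at h1
    exact h1

omit [IsNoetherianRing A] hω in
theorem lt_depth_add_iff (d : ℕ∞) (D s : ℕ) :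
    (s : WithBot ℕ∞) < (d : WithBot ℕ∞) + ((D : ℕ∞) : WithBot ℕ∞) ↔ ((s + 1 - D : ℕ) : ℕ∞) ≤ d := by
  rw [← WithBot.coe_add, show ((s : ℕ) : WithBot ℕ∞) = (((s : ℕ) : ℕ∞) : WithBot ℕ∞) from rfl, WithBot.coe_lt_coe]
  induction d using ENat.recTopCoe with
  | top => simp
  | coe d =>
    rw [← Nat.cast_add, Nat.cast_lt, Nat.cast_le]
    omega

/-- The criterion for modules in terms of depth. -/
theorem crit_iff_depth (M : Type u) [AddCommGroup M] [Module A M] [Module.Finite A M] (s : ℕ) :
    (∀ p q : PrimeSpectrum A, p ≤ q → p ∉ T' → q ∈ T → ∀ i : ℤ, i ≤ (s : ℤ) →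
        ∀ x : Dual.inD A M ⟶ ω⟦degree hω q - i⟧, ∃ t ∉ p.asIdeal, t • x = 0) ↔
      ∀ p q : PrimeSpectrum A, p ∉ T' → q ∈ T → p ≤ q →
        (s : WithBot ℕ∞) < ((LocCoh.depth (Localization.AtPrime p.asIdeal)
          (LocalizedModule p.asIdeal.primeCompl M) : ℕ∞) : WithBot ℕ∞) + Order.krullDim (Set.Icc p q) := by
  constructor
  · intro H p q hp hq hpq
    obtain ⟨D, hD, hD'⟩ := height_Ici_eq hω hpq
    rw [krullDim_Icc hpq, hD', lt_depth_add_iff, le_depth_localized_iff hω M p]
    intro δ hδ
    have h1 := H p q hpq hp hq (δ + D) (by omega)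
    rw [show degree hω q - ((δ : ℤ) + D) = degree hω p - δ by omega] at h1
    exact h1
  · intro H p q hpq hp hq i hi
    obtain ⟨D, hD, hD'⟩ := height_Ici_eq hω hpq
    have h1 := H p q hp hq hpq
    rw [krullDim_Icc hpq, hD', lt_depth_add_iff, le_depth_localized_iff hω M p] at h1
    rcases lt_or_ge (i - D) 0 with hneg | hnn
    · haveI : IsGE (Dual.inD A M) 0 := inferInstance
      haveI : Subsingleton (LocalizedModule p.asIdeal.primeCompl (Dual.inD A M ⟶ ω⟦degree hω q - i⟧)) := by
        by_contra hc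
        rw [not_subsingleton_iff_nontrivial, nontrivial_localized_hom_iff p.asIdeal hω M,
          ← nontrivial_shift_iff _ _ (degree hω p) (degree hω q - i) (D - i) (by omega)] at hc
        haveI : IsNoetherianRing (Localization.AtPrime p.asIdeal) :=
          IsLocalization.isNoetherianRing p.asIdeal.primeCompl _ inferInstance
        have hω' := isDualizing_shift (isDualizing_atPrime p.asIdeal hω) (degree hω p)
        obtain ⟨a, ha⟩ := exists_isGE hω'
        haveI : Module.Finite (Localization.AtPrime p.asIdeal)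
            (TensorProduct A (Localization.AtPrime p.asIdeal) M) := inferInstance
        exact not_subsingleton _ (subsingleton_hom_of_pos
          (((extD A (Localization.AtPrime p.asIdeal)).obj ω)⟦degree hω p⟧) a hω'.finite_cohomology
          (isNormalized_degree hω p) (TensorProduct A (Localization.AtPrime p.asIdeal) M) (D - i) (by omega))
      intro x
      obtain ⟨t, ht, htx⟩ := (LocalizedModule.subsingleton_iff (S := p.asIdeal.primeCompl)).1 inferInstance x
      exact ⟨t, ht, htx⟩
    · obtain ⟨δ, hδ⟩ := Int.eq_ofNat_of_zero_le hnn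
      have h2 := h1 δ (by omega)
      rw [show degree hω p - (δ : ℤ) = degree hω q - i by omega] at h2
      exact h2

end Dualizing

end Groth.SuppCx
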