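import Groth.Agent.SuppCx.Rep

/-!
Finiteness up to a degree and annihilation, for representatives.
-/

set_option autoImplicit false
set_option linter.unusedSectionVars false
set_option linter.style.haveILetI false

universe u

open CategoryTheory Groth.LocCohTransform.SupportExt

namespace Groth.SuppCx

variable {A : Type u} [CommRing A] {C : CochainComplex (ModuleCat.{u} A) ℤ} {T : Set (PrimeSpectrum A)}

theorem kills_of_low {S : ∀ n, Submodule A (C.X n)} (g : A) (i : ℤ) [Subsingleton (C.X i)] :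
    Kills C S g i := fun j _ _ _ x _ _ => by
  rw [Subsingleton.elim (g • x) 0]
  exact Submodule.zero_mem _

theorem forall_ge_exists_ideal {a : ℤ} (hlow : ∀ n < a, Subsingleton (C.X n)) {P : Ideal A → Prop}
    (hP : ∀ J J' : Ideal A, P J → P J' → P (J * J')) (htop : P ⊤)
    {b : ℤ} (h : ∀ i, a ≤ i → i ≤ b → ∃ J : Ideal A, P J ∧ ∀ g ∈ J, Kills C (gamC T C) g i) :
    ∃ J : Ideal A, P J ∧ ∀ i, i ≤ b → ∀ g ∈ J, Kills C (gamC T C) g i := by
  have key : ∀ m : ℕ, ∃ J : Ideal A, P J ∧ ∀ i, i < a + m → i ≤ b → ∀ g ∈ J, Kills C (gamC T C) g i := by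
    intro m
    induction m with
    | zero =>
      refine ⟨⊤, htop, fun i hi _ g _ => ?_⟩
      haveI := hlow i (by omega)
      exact kills_of_low g i
    | succ m ih =>
      obtain ⟨J, hJ, hJk⟩ := ih
      by_cases hb : a + m ≤ b
      · obtain ⟨J', hJ', hJk'⟩ := h (a + m) (by omega) hb
        refine ⟨J * J', hP J J' hJ hJ', fun i hi hib g hg => ?_⟩
        rcases eq_or_ne i (a + m) with rfl | hne
        · exact hJk' g (Ideal.mul_le_right hg)
        · exact hJk i (by omega) hib g (Ideal.mul_le_left hg)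
      · exact ⟨J, hJ, fun i hi hib g hg => hJk i (by omega) hib g hg⟩
  obtain ⟨J, hJ, hJk⟩ := key (b + 1 - a).toNat
  exact ⟨J, hJ, fun i hi g hg => hJk i (by omega) hi g hg⟩

theorem zeroLocus_mul_subset {J J' : Ideal A} (h : PrimeSpectrum.zeroLocus (J : Set A) ⊆ T)
    (h' : PrimeSpectrum.zeroLocus (J' : Set A) ⊆ T) :
    PrimeSpectrum.zeroLocus ((J * J' : Ideal A) : Set A) ⊆ T := fun p hp => by
  rcases p.2.mul_le.1 hp with h1 | h1
  · exact h h1
  · exact h' h1

variable [IsNoetherianRing A]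

/-- Finiteness up to `b` and annihilation up to `b`. -/
theorem finite_iff_exists_kills (hC : ∀ n, Module.Injective A (C.X n)) {a : ℤ}
    (hlow : ∀ n < a, Subsingleton (C.X n))
    (hfin : ∀ j : ℤ, Module.Finite A (Hc C (topC C) j (j + 1) (j + 1 + 1))) (b : ℤ) :
    (∀ i, i ≤ b → Module.Finite A (Hc C (gamC T C) (i - 1) i (i + 1))) ↔
      ∃ J : Ideal A, PrimeSpectrum.zeroLocus (J : Set A) ⊆ T ∧
        ∀ i, i ≤ b → ∀ g ∈ J, Kills C (gamC T C) g i := by
  constructor
  · intro h
    refine forall_ge_exists_ideal hlow (P := fun J => PrimeSpectrum.zeroLocus (J : Set A) ⊆ T)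
      (fun J J' h h' => zeroLocus_mul_subset h h') ?_ fun i _ hi => ?_
    · intro p hp
      exact absurd (top_le_iff.1 hp) p.2.ne_top
    · haveI := h i hi
      exact exists_ideal_kills_of_finite i
  · rintro ⟨J, hJ, hk⟩ i hi
    exact finite_of_kills hC hfin J hJ i (fun g hg i' hi' => hk i' (by omega) g hg) (sub_add_cancel i 1) rfl

end Groth.SuppCx
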