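import Groth.Agent.SuppCx.ModuleForms
import Groth.Agent.LocCohBase.Basic

/-!
`H^i_I(M)` by an injective representative.
-/

set_option autoImplicit false
set_option linter.unusedSectionVars false
set_option linter.style.haveILetI false

universe u

open CategoryTheory CategoryTheory.Limits DerivedCategory Groth.LocCohTransform.SupportExt

attribute [local instance] HasDerivedCategory.standard

namespace Groth.SuppCx

variable {A : Type u} [CommRing A] [IsNoetherianRing A] (I : Ideal A)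

/-- The ideal `Iᵏ`. -/
def powI (k : ℕ) : Dual2.IdealsIn (PrimeSpectrum.zeroLocus (I : Set A)) :=
  ⟨I ^ k, fun p hp => Ideal.IsPrime.le_of_pow_le (P := p.asIdeal) hp⟩

variable {I}

theorem exists_pow_le_of_zeroLocus {J : Ideal A}
    (hJ : PrimeSpectrum.zeroLocus (J : Set A) ⊆ PrimeSpectrum.zeroLocus (I : Set A)) :
    ∃ l : ℕ, I ^ l ≤ J := by
  refine Ideal.exists_pow_le_of_le_radical_of_fg ?_ (IsNoetherian.noetherian _)
  rw [Ideal.radical_eq_sInf]
  exact le_sInf fun Q hQ => hJ (show (⟨Q, hQ.2⟩ : PrimeSpectrum A) ∈ PrimeSpectrum.zeroLocus (J : Set A) from hQ.1)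

theorem trans_eq {n l : ℕ} (h : n ≤ l) :
    Groth.LocCohBase.trans I h = ModuleCat.ofHom (Submodule.mapQ (I ^ l) (I ^ n) LinearMap.id
      (Ideal.pow_le_pow_right h)) :=
  ModuleCat.hom_ext (Submodule.linearMap_qext _ rfl)

/-- `H^i_I(M)` by a K-injective representative of the shifted module. -/
theorem nonempty_H_equiv_zero {L : CochainComplex (ModuleCat.{u} A) ℤ} [L.IsKInjective] (M : Type u)
    [AddCommGroup M] [Module A M] (i : ℕ) (e : (Dual.inD A M)⟦(i : ℤ)⟧ ≅ Q.obj L) :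
    Nonempty (LocCoh.H I i M ≃ₗ[A] Hc L (gamC (PrimeSpectrum.zeroLocus (I : Set A)) L) (-1) 0 1) := by
  obtain ⟨P, hP, hinj, hsurj⟩ := exists_pairing (T := PrimeSpectrum.zeroLocus (I : Set A)) e
  let V := Hc L (gamC (PrimeSpectrum.zeroLocus (I : Set A)) L) (-1) 0 1
  let φ : ∀ k, Abelian.Ext (Groth.LocCohBase.quotPow I k) (ModuleCat.of A M) i →ₗ[A] V :=
    fun k => P (powI I k) ∘ₗ (Groth.DualCore.extDEquiv (A ⧸ I ^ k) M i).toLinearMap
  have htr : ∀ {n l : ℕ} (h : n ≤ l) (α : Abelian.Ext (Groth.LocCohBase.quotPow I n) (ModuleCat.of A M) i),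
      Groth.DualCore.extDEquiv (A ⧸ I ^ l) M i ((Abelian.Ext.mk₀ (Groth.LocCohBase.trans I h)).comp α (zero_add i)) =
        Groth.DualCore.inDmap (Submodule.mapQ (I ^ l) (I ^ n) LinearMap.id (Ideal.pow_le_pow_right h)) ≫
          Groth.DualCore.extDEquiv (A ⧸ I ^ n) M i α := fun {n l} h α => by
    rw [trans_eq h]
    exact @Groth.DualCore.extDEquiv_precomp A _ (A ⧸ I ^ n) (A ⧸ I ^ l) M _ _ _ _ _ _ i _ α
  obtain ⟨Φ, hΦ⟩ := Groth.LocCohBase.exists_desc (I := I) i (ModuleCat.of A M) φ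
    fun {n l} h α => (congrArg (P (powI I l)) (htr h α)).trans
      (hP (powI I n) (powI I l) (Ideal.pow_le_pow_right h) _)
  refine ⟨LinearEquiv.ofBijective Φ ⟨?_, fun t => ?_⟩⟩
  · rw [← LinearMap.ker_eq_bot, LinearMap.ker_eq_bot']
    intro x hx
    obtain ⟨n, α, rfl⟩ := Groth.LocCohBase.exists_rep (I := I) i (ModuleCat.of A M) x
    rw [hΦ] at hx
    obtain ⟨J', h', h0⟩ := hinj (powI I n) _ hx
    obtain ⟨l, hl⟩ := exists_pow_le_of_zeroLocus J'.property
    refine (Groth.LocCohBase.ι_eq_zero_iff (I := I) i (ModuleCat.of A M) α).2 ⟨max l n, le_max_right _ _, ?_⟩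
    refine (Groth.DualCore.extDEquiv (A ⧸ I ^ max l n) M i).injective ?_
    rw [map_zero, htr]
    have hle : I ^ max l n ≤ J'.obj := (Ideal.pow_le_pow_right (le_max_left l n)).trans hl
    have hcomp : Submodule.mapQ (I ^ max l n) (I ^ n) LinearMap.id (Ideal.pow_le_pow_right (le_max_right l n)) =
        Submodule.mapQ J'.obj (powI I n).obj LinearMap.id
            (show J'.obj ≤ Submodule.comap LinearMap.id (powI I n).obj from h') ∘ₗ
          Submodule.mapQ (I ^ max l n) J'.obj LinearMap.id hle :=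
      Submodule.linearMap_qext _ rfl
    rw [hcomp]
    exact ((congrArg (· ≫ _) (Groth.DualCore.inDmap_comp _ _)).trans (Category.assoc _ _ _)).trans
      ((congrArg _ h0).trans comp_zero)
  · obtain ⟨J, v, hv⟩ := hsurj t
    obtain ⟨l, hl⟩ := exists_pow_le_of_zeroLocus J.property
    let w : Dual.inD A (A ⧸ I ^ l) ⟶ (Dual.inD A M)⟦(i : ℤ)⟧ :=
      Groth.DualCore.inDmap (Submodule.mapQ (I ^ l) J.obj LinearMap.id hl) ≫ v
    refine ⟨Groth.LocCohBase.ι I i (ModuleCat.of A M) l ((Groth.DualCore.extDEquiv (A ⧸ I ^ l) M i).symm w),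
      (hΦ l _).trans ?_⟩
    show P (powI I l) (Groth.DualCore.extDEquiv (A ⧸ I ^ l) M i ((Groth.DualCore.extDEquiv (A ⧸ I ^ l) M i).symm w)) = t
    rw [LinearEquiv.apply_symm_apply]
    exact (hP J (powI I l) hl v).trans hv

/-- `H^i_I(M)` by an injective representative of `M`. -/
theorem nonempty_H_equiv {C : CochainComplex (ModuleCat.{u} A) ℤ} [C.IsKInjective] {M : Type u}
    [AddCommGroup M] [Module A M] (e : Q.obj C ≅ Dual.inD A M) (n : ℕ) {j k : ℤ} (hj : j + 1 = (n : ℤ))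
    (hk : (n : ℤ) + 1 = k) :
    Nonempty (LocCoh.H I n M ≃ₗ[A] Hc C (gamC (PrimeSpectrum.zeroLocus (I : Set A)) C) j n k) := by
  obtain ⟨f⟩ := nonempty_H_equiv_zero (I := I) (L := C⟦(n : ℤ)⟧) M n
    ((shiftFunctor (Dual.D A) (n : ℤ)).mapIso e.symm ≪≫ ((Q.commShiftIso (n : ℤ)).app C).symm)
  obtain ⟨g⟩ := nonempty_Hc_shift C (PrimeSpectrum.zeroLocus (I : Set A)) (n : ℤ) (-1) 0 1
  obtain ⟨h⟩ := nonempty_Hc_congr C (S := gamC (PrimeSpectrum.zeroLocus (I : Set A)) C) (j := -1 + (n : ℤ))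
    (i := 0 + (n : ℤ)) (k := 1 + (n : ℤ))
    (show (n : ℤ) = 0 + n by omega) (show j = -1 + (n : ℤ) by omega) (show k = 1 + (n : ℤ) by omega)
  exact ⟨f ≪≫ₗ g ≪≫ₗ h⟩

end Groth.SuppCx
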