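import Groth.Agent.SuppCx.DegreeHeight
import Groth.Agent.DualCore.FlatRadical
import Groth.Agent.DualCore.FiniteHomUnbounded
import Groth.Agent.Calg1.Completion
import Groth.Agent.AdicLinTop.CompletionQuot
import Groth.Agent.LocCohBase.CM
import Groth.Agent.LocCohBase.CdLocal
import Groth.Agent.LocCohTransform.DimCd
import Groth.Agent.LocCohTransform.AdjDepth
import Groth.Agent.LocCohTransform.DualDegree
import Mathlib.RingTheory.AdicCompletion.AsTensorProduct
import Mathlib

/-!
Depth along completions through degrees of dualizing complexes; conditions on completions.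
-/

set_option autoImplicit false
set_option linter.unusedSectionVars false
set_option linter.style.haveILetI false

universe u

open CategoryTheory
open scoped TensorProduct

attribute [local instance] HasDerivedCategory.standard

namespace Groth.SuppCx.CompletionDepth

open Groth.DualCore TensorProduct DerivedCategory

theorem support_tensor {R R' : Type u} [CommRing R] [CommRing R'] [Algebra R R'] (M : Type*) [AddCommGroup M] [Module R M] [Module.Finite R M] : Module.support R' (R' ⊗[R] M) = PrimeSpectrum.comap (algebraMap R R') ⁻¹' Module.support R M := by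
  ext q
  rw [Module.mem_support_iff_nontrivial_residueField_tensorProduct, Set.mem_preimage,
    Module.mem_support_iff_nontrivial_residueField_tensorProduct]
  let K := q.asIdeal.ResidueField
  let k := (PrimeSpectrum.comap (algebraMap R R') q).asIdeal.ResidueField
  rw [(TensorProduct.AlgebraTensorModule.cancelBaseChange R R' K K M).nontrivial_congr]
  letI : Algebra k K := (Ideal.ResidueField.mapₐ (PrimeSpectrum.comap (algebraMap R R') q).asIdeal q.asIdeal (Algebra.ofId R R') rfl).toRingHom.toAlgebra
  haveI : IsScalarTower R k K := IsScalarTower.of_algebraMap_eq fun r => (AlgHom.commutes _ r).symm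
  rw [← (TensorProduct.AlgebraTensorModule.cancelBaseChange R k K K M).nontrivial_congr]
  constructor
  · intro h
    by_contra hc
    rw [not_nontrivial_iff_subsingleton] at hc
    exact (not_nontrivial_iff_subsingleton.2 (inferInstance : Subsingleton (K ⊗[k] (k ⊗[R] M)))) h
  · intro h; exact inferInstance


variable {A : Type u} [CommRing A] [IsNoetherianRing A] {B : Type u} [CommRing B] [IsNoetherianRing B]
  [Algebra A B] [Module.Flat A B] {ω : Dual.D A} (hω : Dual.IsDualizing A ω)
  (hω' : Dual.IsDualizing B ((extD A B).obj ω))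

include hω in
theorem vanish_of_pos (p : PrimeSpectrum A) (M : Type u) [AddCommGroup M] [Module A M] [Module.Finite A M]
    (m : ℤ) (hm : degree hω p < m) : p ∉ Module.support A (Dual.inD A M ⟶ ω⟦m⟧) := by
  rw [Module.notMem_support_iff]
  by_contra hc
  rw [not_subsingleton_iff_nontrivial, nontrivial_localized_hom_iff p.asIdeal hω M,
    ← nontrivial_shift_iff _ _ (degree hω p) m (m - degree hω p) (by omega)] at hc
  haveI : IsNoetherianRing (Localization.AtPrime p.asIdeal) :=
    IsLocalization.isNoetherianRing p.asIdeal.primeCompl _ inferInstance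
  have hω' := isDualizing_shift (isDualizing_atPrime p.asIdeal hω) (degree hω p)
  obtain ⟨a, ha⟩ := exists_isGE hω'
  haveI : Module.Finite (Localization.AtPrime p.asIdeal)
      (TensorProduct A (Localization.AtPrime p.asIdeal) M) := inferInstance
  exact not_subsingleton _ (subsingleton_hom_of_pos
    (((extD A (Localization.AtPrime p.asIdeal)).obj ω)⟦degree hω p⟧) a hω'.finite_cohomology
    (isNormalized_degree hω p) (TensorProduct A (Localization.AtPrime p.asIdeal) M) (m - degree hω p) (by omega))

include hω in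
theorem le_depth_iff_support (p : PrimeSpectrum A) (M : Type u) [AddCommGroup M] [Module A M] [Module.Finite A M]
    (k : ℕ) :
    (k : ℕ∞) ≤ LocCoh.depth (Localization.AtPrime p.asIdeal) (LocalizedModule p.asIdeal.primeCompl M) ↔
      ∀ δ : ℕ, δ < k → p ∉ Module.support A (Dual.inD A M ⟶ ω⟦degree hω p - δ⟧) := by
  rw [Groth.SuppCx.le_depth_localized_iff hω M p k]
  simp only [Module.notMem_support_iff']

include hω in
theorem mem_support_hom (P : PrimeSpectrum B) (M : Type u) [AddCommGroup M] [Module A M] [Module.Finite A M]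
    {M' : Type u} [AddCommGroup M'] [Module B M'] (e : M' ≃ₗ[B] B ⊗[A] M) (m : ℤ) :
    P ∈ Module.support B (Dual.inD B M' ⟶ ((extD A B).obj ω)⟦m⟧) ↔
      PrimeSpectrum.comap (algebraMap A B) P ∈ Module.support A (Dual.inD A M ⟶ ω⟦m⟧) := by
  obtain ⟨a', b', hab⟩ := hω.finite_injective_dimension
  obtain ⟨r⟩ := exists_injRep ω a' b' hab
  haveI := finite_hom_of_injRep r (fun i => finite_HD_inD M i) hω.finite_cohomology m
  obtain ⟨a, b, ha, -⟩ := exists_bounds hω
  let f := (Linear.homCongr B ((singleFunctor (ModuleCat.{u} B) 0).mapIso e.toModuleIso)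
    (Iso.refl (((extD A B).obj ω)⟦m⟧))).trans (extHomInDEquiv (B := B) M ω a m).symm
  have h : Module.support B (Dual.inD B M' ⟶ ((extD A B).obj ω)⟦m⟧) =
      PrimeSpectrum.comap (algebraMap A B) ⁻¹' Module.support A (Dual.inD A M ⟶ ω⟦m⟧) :=
    by
      refine f.support_eq.trans ?_
      exact support_tensor (R := A) (R' := B) (Dual.inD A M ⟶ ω⟦m⟧)
  exact Set.ext_iff.1 h P

include hω hω' in
/-- Depth of a flat base change through the degrees. -/
theorem depth_shift (P : PrimeSpectrum B) (M : Type u) [AddCommGroup M] [Module A M] [Module.Finite A M]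
    {M' : Type u} [AddCommGroup M'] [Module B M'] (e : M' ≃ₗ[B] B ⊗[A] M) (c : ℕ)
    (hc : degree hω' P = degree hω (PrimeSpectrum.comap (algebraMap A B) P) + c) :
    LocCoh.depth (Localization.AtPrime P.asIdeal) (LocalizedModule P.asIdeal.primeCompl M') =
      LocCoh.depth (Localization.AtPrime (PrimeSpectrum.comap (algebraMap A B) P).asIdeal)
        (LocalizedModule (PrimeSpectrum.comap (algebraMap A B) P).asIdeal.primeCompl M) + c := by
  haveI : Module.Finite B M' := Module.Finite.equiv e.symm
  set p := PrimeSpectrum.comap (algebraMap A B) P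
  have key : ∀ k : ℕ, ((k + c : ℕ) : ℕ∞) ≤ LocCoh.depth (Localization.AtPrime P.asIdeal)
      (LocalizedModule P.asIdeal.primeCompl M') ↔ (k : ℕ∞) ≤ LocCoh.depth (Localization.AtPrime p.asIdeal)
      (LocalizedModule p.asIdeal.primeCompl M) := by
    intro k
    rw [le_depth_iff_support hω' P M', le_depth_iff_support hω p M]
    constructor
    · intro h δ hδ hp
      refine h (δ + c) (by omega) ((mem_support_hom hω P M e _).2 ?_)
      rw [show degree hω' P - ((δ + c : ℕ) : ℤ) = degree hω p - δ by omega]
      exact hp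
    · intro h δ hδ hP
      have hp := (mem_support_hom hω P M e _).1 hP
      rcases lt_or_ge δ c with hlt | hge
      · exact vanish_of_pos hω p M _ (by omega) hp
      · refine h (δ - c) (by omega) ?_
        rw [show degree hω p - ((δ - c : ℕ) : ℤ) = degree hω' P - δ by omega]
        exact hp
  have hc0 : (c : ℕ∞) ≤ LocCoh.depth (Localization.AtPrime P.asIdeal)
      (LocalizedModule P.asIdeal.primeCompl M') := by
    have := (key 0).2 (by simp)
    simpa using this
  obtain ⟨d, hd⟩ := exists_add_of_le hc0
  rw [hd, add_comm]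
  congr 1
  refine le_antisymm (ENat.forall_natCast_le_iff_le.1 fun n hn => (key n).1 ?_)
    (ENat.forall_natCast_le_iff_le.1 fun n hn => ?_)
  · rw [hd, Nat.cast_add, add_comm]
    exact add_le_add_right hn _
  · have h := (key n).2 hn
    rw [hd, Nat.cast_add, add_comm (n : ℕ∞)] at h
    exact (ENat.add_le_add_iff_left (ENat.natCast_ne_top c)).1 h

include hω hω' in
theorem degree_le (P : PrimeSpectrum B) :
    degree hω (PrimeSpectrum.comap (algebraMap A B) P) ≤ degree hω' P := by
  set p := PrimeSpectrum.comap (algebraMap A B) P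
  by_contra hlt
  haveI : IsNoetherianRing (Localization.AtPrime P.asIdeal) :=
    IsLocalization.isNoetherianRing P.asIdeal.primeCompl _ inferInstance
  let M' := B ⊗[A] (A ⧸ p.asIdeal)
  let N := LocalizedModule P.asIdeal.primeCompl M'
  haveI : Module.Finite (Localization.AtPrime P.asIdeal) N :=
    Module.Finite.of_isLocalizedModule P.asIdeal.primeCompl (LocalizedModule.mkLinearMap P.asIdeal.primeCompl M')
  haveI : Nontrivial N := by
    have h : P ∈ Module.support B M' := by
      refine (Set.ext_iff.1 (support_tensor (R := A) (R' := B) (A ⧸ p.asIdeal)) P).2 ?_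
      rw [Set.mem_preimage, Module.mem_support_iff_of_finite, Ideal.annihilator_quotient]
    exact h
  have htop : LocCoh.depth (Localization.AtPrime P.asIdeal) N = ⊤ := by
    refine ENat.eq_top_iff_forall_ge.2 fun k => (le_depth_iff_support hω' P M' k).2 fun δ _ hP => ?_
    have h2 := (mem_support_hom hω P (A ⧸ p.asIdeal) (LinearEquiv.refl B M') _).1 hP
    rw [Module.mem_support_iff, degree_iff hω p] at h2
    omega
  obtain ⟨n, hn⟩ := Groth.LocCohBase.exists_depth_eq (R := Localization.AtPrime P.asIdeal) N
  exact ENat.natCast_ne_top n (hn.symm.trans htop)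

include hω hω' in
theorem degree_eq_of_map_le {I : Ideal A} (Q : PrimeSpectrum B)
    (hs : Function.Surjective ((Ideal.Quotient.mk (I.map (algebraMap A B))).comp (algebraMap A B)))
    (hQ : I.map (algebraMap A B) ≤ Q.asIdeal) :
    degree hω' Q = degree hω (PrimeSpectrum.comap (algebraMap A B) Q) := by
  set q := PrimeSpectrum.comap (algebraMap A B) Q
  have hmap : q.asIdeal.map (algebraMap A B) = Q.asIdeal := by
    refine le_antisymm Ideal.map_comap_le fun x hx => ?_
    obtain ⟨a, ha⟩ := hs (Ideal.Quotient.mk _ x)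
    have hd : algebraMap A B a - x ∈ I.map (algebraMap A B) := Ideal.Quotient.eq.1 ha
    have haq : a ∈ q.asIdeal := by
      show algebraMap A B a ∈ Q.asIdeal
      have := Q.asIdeal.add_mem (hQ hd) hx
      rwa [sub_add_cancel] at this
    have hIq : I ≤ q.asIdeal := Ideal.map_le_iff_le_comap.1 hQ
    have := (q.asIdeal.map (algebraMap A B)).sub_mem (Ideal.mem_map_of_mem _ haq) (Ideal.map_mono hIq hd)
    rwa [sub_sub_cancel] at this
  let e : (B ⧸ Q.asIdeal) ≃ₗ[B] B ⊗[A] (A ⧸ q.asIdeal) :=
    (Submodule.quotEquivOfEq _ _ hmap.symm).trans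
      (Algebra.TensorProduct.quotIdealMapEquivTensorQuot B q.asIdeal).toLinearEquiv
  have h := (degree_iff hω' Q (degree hω' Q)).2 rfl
  rw [← Module.mem_support_iff, mem_support_hom hω Q (A ⧸ q.asIdeal) e, Module.mem_support_iff,
    degree_iff hω q] at h
  exact h

section Completion

variable (I : Ideal A)

theorem isMaximal_of_comap {R S : Type*} [CommRing R] [CommRing S] {f : R →+* S} (hf : Function.Surjective f)
    {x : Ideal S} (hx : (x.comap f).IsMaximal) : x.IsMaximal := by
  rcases Ideal.map_eq_top_or_isMaximal_of_surjective f hf hx with h | h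
  · rw [Ideal.map_comap_of_surjective f hf] at h
    exact absurd (by rw [h, Ideal.comap_top]) hx.ne_top
  · rwa [Ideal.map_comap_of_surjective f hf] at h

/-- The completion is Noetherian. -/
theorem isNoetherianRing_completion : IsNoetherianRing (AdicCompletion I A) :=
  Groth.Calg1.isNoetherianRing_adicCompletion I (IsNoetherian.noetherian I)

theorem surjective_mod :
    Function.Surjective ((Ideal.Quotient.mk (I.map (algebraMap A (AdicCompletion I A)))).comp
      (algebraMap A (AdicCompletion I A))) := fun y => by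
  have hI : I.FG := IsNoetherian.noetherian I
  obtain ⟨x, rfl⟩ := Ideal.Quotient.mk_surjective y
  obtain ⟨r, hr⟩ := Ideal.Quotient.mk_surjective (AdicCompletion.evalₐ I 1 x)
  refine ⟨r, Ideal.Quotient.eq.2 ?_⟩
  rw [← pow_one (I.map _), ← Groth.AdicLinTop.CompletionQuot.ker_evalₐ I hI 1, RingHom.mem_ker]
  simp [map_sub, Groth.AdicLinTop.CompletionQuot.evalₐ_algebraMap, hr]

theorem map_le_of_isMaximal (Q : Ideal (AdicCompletion I A)) [Q.IsMaximal] :
    I.map (algebraMap A (AdicCompletion I A)) ≤ Q := by
  haveI := Groth.AdicLinTop.CompletionQuot.isAdicComplete_map I (IsNoetherian.noetherian I)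
  exact (IsAdicComplete.le_jacobson_bot _).trans (sInf_le ⟨bot_le, inferInstance⟩)

theorem isMaximal_comap (Q : Ideal (AdicCompletion I A)) [Q.IsMaximal] :
    (Q.comap (algebraMap A (AdicCompletion I A))).IsMaximal := by
  have hle := map_le_of_isMaximal I Q
  have hs : Function.Surjective ((Ideal.Quotient.mk Q).comp (algebraMap A (AdicCompletion I A))) := fun y => by
    obtain ⟨x, rfl⟩ := Ideal.Quotient.mk_surjective y
    obtain ⟨a, ha⟩ := surjective_mod I (Ideal.Quotient.mk _ x)
    exact ⟨a, Ideal.Quotient.eq.2 (hle (Ideal.Quotient.eq.1 ha))⟩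
  letI := Ideal.Quotient.field Q
  have h := RingHom.ker_isMaximal_of_surjective _ hs
  rwa [← RingHom.comap_ker, Ideal.mk_ker] at h

/-- A maximal ideal of `A` containing `I` extends to a maximal ideal of the completion. -/
theorem eq_map_of_le (Q : Ideal (AdicCompletion I A)) [Q.IsPrime]
    (hQ : I.map (algebraMap A (AdicCompletion I A)) ≤ Q)
    [hm : (Q.comap (algebraMap A (AdicCompletion I A))).IsMaximal] : Q.IsMaximal := by
  obtain ⟨Q₁, hQ₁, hle⟩ := Ideal.exists_le_maximal Q (Ideal.IsPrime.ne_top inferInstance)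
  have hc : Q₁.comap (algebraMap A (AdicCompletion I A)) = Q.comap (algebraMap A (AdicCompletion I A)) :=
    (hm.eq_of_le (Ideal.comap_ne_top _ hQ₁.ne_top) (Ideal.comap_mono hle)).symm
  suffices h : Q₁ ≤ Q by rwa [le_antisymm hle h]
  intro x hx
  obtain ⟨a, ha⟩ := surjective_mod I (Ideal.Quotient.mk _ x)
  have hd : algebraMap A (AdicCompletion I A) a - x ∈ I.map (algebraMap A (AdicCompletion I A)) :=
    Ideal.Quotient.eq.1 ha
  have haQ : a ∈ Q₁.comap (algebraMap A (AdicCompletion I A)) := by
    have := Q₁.add_mem (hle (hQ hd)) hx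
    rwa [sub_add_cancel] at this
  rw [hc] at haQ
  have := Q.sub_mem haQ (hQ hd)
  rwa [sub_sub_cancel] at this

/-- The base change of a dualizing complex to the completion. -/
theorem isDualizing_completion [IsNoetherianRing (AdicCompletion I A)] {ω : Dual.D A} (hω : Dual.IsDualizing A ω) :
    Dual.IsDualizing (AdicCompletion I A) ((extD A (AdicCompletion I A)).obj ω) := by
  haveI := Groth.AdicLinTop.CompletionQuot.isAdicComplete_map I (IsNoetherian.noetherian I)
  exact isDualizing_extD_of_iso_mod hω I (surjective_mod I) (IsAdicComplete.le_jacobson_bot _)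

include hω in
omit [IsNoetherianRing B] [Module.Flat A B] in
/-- Depth and dimensions along the completion. -/
theorem exists_depth_formula (M : Type u) [AddCommGroup M] [Module A M] [Module.Finite A M]
    (p' q' : PrimeSpectrum (AdicCompletion I A)) (hpq : p' ≤ q')
    (hq : I.map (algebraMap A (AdicCompletion I A)) ≤ q'.asIdeal) :
    ∃ c D D' : ℕ, c + D' = D ∧
      LocCoh.depth (Localization.AtPrime p'.asIdeal) (LocalizedModule p'.asIdeal.primeCompl (AdicCompletion I M)) =
        LocCoh.depth (Localization.AtPrime (PrimeSpectrum.comap (algebraMap A (AdicCompletion I A)) p').asIdeal)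
          (LocalizedModule (PrimeSpectrum.comap (algebraMap A (AdicCompletion I A)) p').asIdeal.primeCompl M) + c ∧
      Formal2.dimBetween (AdicCompletion I A) p'.asIdeal q'.asIdeal = ((D' : ℕ∞) : WithBot ℕ∞) ∧
      Formal2.dimBetween A (PrimeSpectrum.comap (algebraMap A (AdicCompletion I A)) p').asIdeal
        (PrimeSpectrum.comap (algebraMap A (AdicCompletion I A)) q').asIdeal = ((D : ℕ∞) : WithBot ℕ∞) := by
  haveI := isNoetherianRing_completion I
  haveI : Module.Flat A (AdicCompletion I A) := inferInstance
  have hω' := isDualizing_completion I hω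
  have hdq := degree_eq_of_map_le hω hω' q' (surjective_mod I) hq
  have hdp := degree_le hω hω' p'
  have hpq' : PrimeSpectrum.comap (algebraMap A (AdicCompletion I A)) p' ≤
      PrimeSpectrum.comap (algebraMap A (AdicCompletion I A)) q' := Ideal.comap_mono hpq
  obtain ⟨D, hD⟩ := Groth.LocCohTransform.DualDegree.exists_degree_eq hω hpq'
  obtain ⟨D', hD'⟩ := Groth.LocCohTransform.DualDegree.exists_degree_eq hω' hpq
  obtain ⟨c, hc⟩ := Int.le.dest hdp
  refine ⟨c, D, D', by omega, depth_shift hω hω' p' M
    (AdicCompletion.ofTensorProductEquivOfFiniteNoetherian I M).symm c hc.symm,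
    Groth.LocCohTransform.DualDegree.dimBetween hω' hpq hD',
    Groth.LocCohTransform.DualDegree.dimBetween hω hpq' hD⟩

include hω in
omit [IsNoetherianRing B] [Module.Flat A B] in
/-- Over a prime minimal over the extension of a prime the depth does not grow. -/
theorem depth_completion_le (M : Type u) [AddCommGroup M] [Module A M] [Module.Finite A M]
    (p' : PrimeSpectrum (AdicCompletion I A))
    (hmin : p'.asIdeal ∈ ((p'.asIdeal.comap (algebraMap A (AdicCompletion I A))).map
      (algebraMap A (AdicCompletion I A))).minimalPrimes) :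
    LocCoh.depth (Localization.AtPrime p'.asIdeal) (LocalizedModule p'.asIdeal.primeCompl (AdicCompletion I M)) ≤
      LocCoh.depth (Localization.AtPrime (PrimeSpectrum.comap (algebraMap A (AdicCompletion I A)) p').asIdeal)
        (LocalizedModule (PrimeSpectrum.comap (algebraMap A (AdicCompletion I A)) p').asIdeal.primeCompl M) := by
  haveI := isNoetherianRing_completion I
  haveI : Module.Flat A (AdicCompletion I A) := inferInstance
  have hω' := isDualizing_completion I hω
  obtain ⟨c, hc⟩ := Int.le.dest (degree_le hω hω' p')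
  set p := PrimeSpectrum.comap (algebraMap A (AdicCompletion I A)) p'
  let X := AdicCompletion I A ⊗[A] (A ⧸ p.asIdeal)
  let L := Localization.AtPrime p'.asIdeal
  haveI : IsNoetherianRing L := IsLocalization.isNoetherianRing p'.asIdeal.primeCompl _ inferInstance
  haveI : Module.Finite L (LocalizedModule p'.asIdeal.primeCompl X) :=
    Module.Finite.of_isLocalizedModule p'.asIdeal.primeCompl (LocalizedModule.mkLinearMap p'.asIdeal.primeCompl X)
  have hX : ∀ y : PrimeSpectrum (AdicCompletion I A), y ∈ Module.support (AdicCompletion I A) X ↔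
      p.asIdeal.map (algebraMap A (AdicCompletion I A)) ≤ y.asIdeal := fun y => by
    refine (Set.ext_iff.1 (support_tensor (R := A) (R' := AdicCompletion I A) (A ⧸ p.asIdeal)) y).trans ?_
    rw [Set.mem_preimage, Module.mem_support_iff_of_finite, Ideal.annihilator_quotient,
      Ideal.map_le_iff_le_comap]
    rfl
  haveI : Nontrivial (LocalizedModule p'.asIdeal.primeCompl X) :=
    Module.mem_support_iff.1 ((hX p').2 hmin.1.2)
  have hsupp : Module.support L (LocalizedModule p'.asIdeal.primeCompl X) ⊆
      {IsLocalRing.closedPoint L} := by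
    intro x hx
    have e := (LocalizedModule.equivTensorProduct p'.asIdeal.primeCompl X).support_eq
    rw [e, support_tensor (R := AdicCompletion I A) (R' := L) X, Set.mem_preimage, hX] at hx
    have hle : x.asIdeal.comap (algebraMap (AdicCompletion I A) L) ≤ p'.asIdeal :=
      (Ideal.comap_mono (IsLocalRing.le_maximalIdeal x.2.ne_top)).trans_eq
        (IsLocalization.AtPrime.under_maximalIdeal L p'.asIdeal)
    have heq : x.asIdeal.comap (algebraMap (AdicCompletion I A) L) = p'.asIdeal :=
      le_antisymm hle (hmin.2 ⟨inferInstance, hx⟩ hle)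
    refine PrimeSpectrum.ext ((le_antisymm (IsLocalRing.le_maximalIdeal x.2.ne_top) ?_))
    show IsLocalRing.maximalIdeal L ≤ x.asIdeal
    rw [← Localization.AtPrime.map_eq_maximalIdeal]
    exact Ideal.map_le_iff_le_comap.2 heq.ge
  have h0 : Module.supportDim L (LocalizedModule p'.asIdeal.primeCompl X) ≤ 0 := by
    haveI : Subsingleton (Module.support L (LocalizedModule p'.asIdeal.primeCompl X)) :=
      ⟨fun x y => Subtype.ext ((hsupp x.2).trans (hsupp y.2).symm)⟩
    exact Order.krullDim_nonpos_of_subsingleton
  have h1 := (Groth.LocCohBase.depth_le_supportDim (R := L) (LocalizedModule p'.asIdeal.primeCompl X)).trans h0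
  rw [show (0 : WithBot ℕ∞) = ((0 : ℕ∞) : WithBot ℕ∞) from rfl, WithBot.coe_le_coe] at h1
  have h2 := depth_shift hω hω' p' (A ⧸ p.asIdeal) (LinearEquiv.refl _ X) c hc.symm
  rw [h2] at h1
  have hc0 : c = 0 := by
    have := le_trans le_add_self h1
    exact_mod_cast Nat.le_zero.1 (by exact_mod_cast this)
  have h3 := depth_shift hω hω' p' M
    (AdicCompletion.ofTensorProductEquivOfFiniteNoetherian I M).symm c hc.symm
  rw [h3, hc0, Nat.cast_zero, add_zero]

omit [IsNoetherianRing B] [Module.Flat A B] in
/-- `cd` bounds the dimension of the completion modulo a prime when only maximal ideals lie above. -/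
theorem dimBetween_completion_le (d : ℕ) (hd : LocCoh.CdLE A I d) (p' q' : PrimeSpectrum (AdicCompletion I A))
    (hpq : p' ≤ q') (hq : I.map (algebraMap A (AdicCompletion I A)) ≤ q'.asIdeal)
    (hmax : ∀ y : PrimeSpectrum (AdicCompletion I A), p' ≤ y →
      I.map (algebraMap A (AdicCompletion I A)) ≤ y.asIdeal → y.asIdeal.IsMaximal) :
    Formal2.dimBetween (AdicCompletion I A) p'.asIdeal q'.asIdeal ≤ ((d : ℕ∞) : WithBot ℕ∞) := by
  haveI := isNoetherianRing_completion I
  let A' := AdicCompletion I A
  let L := Localization.AtPrime q'.asIdeal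
  haveI : IsNoetherianRing L := IsLocalization.isNoetherianRing q'.asIdeal.primeCompl _ inferInstance
  let P := p'.asIdeal.map (algebraMap A' L)
  have hPle : P ≤ IsLocalRing.maximalIdeal L := Ideal.map_le_iff_le_comap.2
    ((show p'.asIdeal ≤ q'.asIdeal from hpq).trans (IsLocalization.AtPrime.under_maximalIdeal L q'.asIdeal).ge)
  haveI : Nontrivial (L ⧸ P) := Ideal.Quotient.nontrivial_iff.2 fun h =>
    (IsLocalRing.maximalIdeal.isMaximal L).ne_top (top_le_iff.1 (h ▸ hPle))
  haveI : IsLocalRing (L ⧸ P) := .of_surjective' (Ideal.Quotient.mk P) Ideal.Quotient.mk_surjective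
  let φ : A' →+* L ⧸ P := (Ideal.Quotient.mk P).comp (algebraMap A' L)
  let J : Ideal (L ⧸ P) := (I.map (algebraMap A A')).map φ
  have hJ : J ≠ ⊤ := fun h => by
    refine (IsLocalRing.maximalIdeal.isMaximal (L ⧸ P)).ne_top (top_le_iff.1 (h ▸ ?_))
    refine Ideal.map_le_iff_le_comap.2 fun x hx => ?_
    rw [Ideal.mem_comap, IsLocalRing.mem_maximalIdeal, mem_nonunits_iff]
    intro hu
    obtain ⟨v, hv⟩ := hu.exists_right_inv
    obtain ⟨w, rfl⟩ := Ideal.Quotient.mk_surjective v
    rw [RingHom.comp_apply, ← map_mul, ← map_one (Ideal.Quotient.mk P), Ideal.Quotient.eq] at hv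
    have hxm : algebraMap A' L x ∈ IsLocalRing.maximalIdeal L := by
      rw [← Ideal.mem_comap]
      exact (IsLocalization.AtPrime.under_maximalIdeal L q'.asIdeal).ge (hq hx)
    have h1 := (IsLocalRing.maximalIdeal L).sub_mem (Ideal.mul_mem_right w _ hxm) (hPle hv)
    rw [sub_sub_cancel] at h1
    exact (IsLocalRing.maximalIdeal.isMaximal L).ne_top ((Ideal.eq_top_iff_one _).2 h1)
  have hJeq : J = I.map (φ.comp (algebraMap A A')) := Ideal.map_map _ _
  letI : Algebra A (L ⧸ P) := (φ.comp (algebraMap A A')).toAlgebra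
  have hcd : LocCoh.CdLE (L ⧸ P) J d := hJeq ▸ Groth.LocCohBase.cdLE_map (L ⧸ P) hd
  have h0 : ringKrullDim ((L ⧸ P) ⧸ J) ≤ ((0 : ℕ) : WithBot ℕ∞) := by
    haveI : Ring.KrullDimLE 0 ((L ⧸ P) ⧸ J) := Ring.KrullDimLE.mk₀ fun x hx => by
      haveI := hx
      let x₁ : Ideal (L ⧸ P) := x.comap (Ideal.Quotient.mk J)
      let x₂ : Ideal L := x₁.comap (Ideal.Quotient.mk P)
      let y : PrimeSpectrum A' := ⟨x₂.comap (algebraMap A' L), inferInstance⟩
      have hy1 : p' ≤ y := fun a ha => by
        show Ideal.Quotient.mk J (Ideal.Quotient.mk P (algebraMap A' L a)) ∈ x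
        rw [Ideal.Quotient.eq_zero_iff_mem.2 (Ideal.mem_map_of_mem _ ha), map_zero]
        exact zero_mem x
      have hy2 : I.map (algebraMap A A') ≤ y.asIdeal := fun a ha => by
        show Ideal.Quotient.mk J (φ a) ∈ x
        rw [Ideal.Quotient.eq_zero_iff_mem.2 (Ideal.mem_map_of_mem φ ha)]
        exact zero_mem x
      have hyq : y.asIdeal = q'.asIdeal := (hmax y hy1 hy2).eq_of_le q'.2.ne_top
        ((Ideal.comap_mono (IsLocalRing.le_maximalIdeal (Ideal.IsPrime.ne_top inferInstance))).trans_eq
          (IsLocalization.AtPrime.under_maximalIdeal L q'.asIdeal))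
      have hx₂ : x₂ = IsLocalRing.maximalIdeal L :=
        le_antisymm (IsLocalRing.le_maximalIdeal (Ideal.IsPrime.ne_top inferInstance)) (by
          rw [← Localization.AtPrime.map_eq_maximalIdeal]
          exact Ideal.map_le_iff_le_comap.2 hyq.ge)
      haveI : x₂.IsMaximal := hx₂ ▸ inferInstance
      haveI : x₁.IsMaximal := isMaximal_of_comap Ideal.Quotient.mk_surjective ‹x₂.IsMaximal›
      exact isMaximal_of_comap Ideal.Quotient.mk_surjective inferInstance
    exact Order.KrullDimLE.krullDim_le
  simpa using Groth.LocCohTransform.DimCd.dim_le_cd_add_dim 0 d J hJ h0 hcd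

end Completion

end Groth.SuppCx.CompletionDepth
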