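import Groth.Agent.SuppCx.CompletionDepth
import Groth.Agent.AdicLinTop.CompletionMap
import Groth.Agent.LocCohZBase.AffineDepth
import Mathlib

/-!
Localisations of the completion and completions of the localisation have the same completion.
-/

set_option autoImplicit false
set_option linter.unusedSectionVars false
set_option linter.style.haveILetI false

universe u

open scoped TensorProduct

namespace Groth.SuppCx.CompletionLocalIso

open Groth.SuppCx.CompletionDepth

/-- Two continuous maps out of a completion that agree on the ring are equal. -/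
theorem hom_ext {R S : Type u} [CommRing R] [CommRing S] {J : Ideal R} (hJ : J.FG) (K : Ideal S)
    [IsHausdorff K S] (f g : AdicCompletion J R →+* S)
    (h : f.comp (algebraMap R (AdicCompletion J R)) = g.comp (algebraMap R (AdicCompletion J R)))
    (hK : J.map (f.comp (algebraMap R (AdicCompletion J R))) ≤ K) : f = g := by
  refine RingHom.ext fun x => sub_eq_zero.1 (IsHausdorff.haus' (I := K) _ fun n => ?_)
  rw [SModEq.zero, smul_eq_mul, Ideal.mul_top]
  obtain ⟨r, hr⟩ := Groth.AdicLinTop.CompletionQuot.exists_sub_mem J hJ n x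
  have hf : ∀ y ∈ (J.map (algebraMap R (AdicCompletion J R))) ^ n, f y ∈ K ^ n := fun y hy => by
    have := Ideal.mem_map_of_mem f hy
    rw [Ideal.map_pow, Ideal.map_map] at this
    exact Ideal.pow_right_mono hK n this
  have hg : ∀ y ∈ (J.map (algebraMap R (AdicCompletion J R))) ^ n, g y ∈ K ^ n := fun y hy => by
    have := Ideal.mem_map_of_mem g hy
    rw [Ideal.map_pow, Ideal.map_map] at this
    exact Ideal.pow_right_mono (h ▸ hK) n this
  have he : f x - g x = f (x - algebraMap R _ r) - g (x - algebraMap R _ r) := by
    have h' := RingHom.congr_fun h r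
    simp only [RingHom.comp_apply] at h'
    rw [map_sub, map_sub, h']
    ring
  rw [he]
  exact (K ^ n).sub_mem (hf _ hr) (hg _ hr)

variable {A : Type u} [CommRing A] [IsNoetherianRing A] (I : Ideal A) (q : PrimeSpectrum (AdicCompletion I A))

/-- The completion of `A_{q₀}` is the completion of `A'_q` for `q` over `q₀` containing `I'`. -/
theorem exists_equiv (hq : I.map (algebraMap A (AdicCompletion I A)) ≤ q.asIdeal) :
    Nonempty (AdicCompletion (I.map (algebraMap A (Localization.AtPrime
        (PrimeSpectrum.comap (algebraMap A (AdicCompletion I A)) q).asIdeal)))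
        (Localization.AtPrime (PrimeSpectrum.comap (algebraMap A (AdicCompletion I A)) q).asIdeal) ≃ₐ[A]
      AdicCompletion ((I.map (algebraMap A (AdicCompletion I A))).map
        (algebraMap (AdicCompletion I A) (Localization.AtPrime q.asIdeal))) (Localization.AtPrime q.asIdeal)) := by
  set q₀ := PrimeSpectrum.comap (algebraMap A (AdicCompletion I A)) q
  let A' := AdicCompletion I A
  haveI : IsNoetherianRing A' := isNoetherianRing_completion I
  let B := Localization.AtPrime q₀.asIdeal
  let B' := Localization.AtPrime q.asIdeal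
  haveI : IsNoetherianRing B := IsLocalization.isNoetherianRing q₀.asIdeal.primeCompl _ inferInstance
  haveI : IsNoetherianRing B' := IsLocalization.isNoetherianRing q.asIdeal.primeCompl _ inferInstance
  let J : Ideal B := I.map (algebraMap A B)
  let J' : Ideal B' := (I.map (algebraMap A A')).map (algebraMap A' B')
  let C := AdicCompletion J B
  let C' := AdicCompletion J' B'
  let K : Ideal C := J.map (algebraMap B C)
  let K' : Ideal C' := J'.map (algebraMap B' C')
  haveI : IsAdicComplete K C := Groth.AdicLinTop.CompletionQuot.isAdicComplete_map J (IsNoetherian.noetherian J)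
  haveI : IsAdicComplete K' C' := Groth.AdicLinTop.CompletionQuot.isAdicComplete_map J' (IsNoetherian.noetherian J')
  -- forward
  let φ : B →+* C' := (algebraMap B' C').comp
    (Localization.localRingHom q₀.asIdeal q.asIdeal (algebraMap A A') rfl)
  have hφA : φ.comp (algebraMap A B) = algebraMap A C' := RingHom.ext fun a => by
    show algebraMap B' C' (Localization.localRingHom _ _ _ _ (algebraMap A B a)) = _
    rw [Localization.localRingHom_to_map, IsScalarTower.algebraMap_apply A B' C']
    congr 1
  have hK' : J.map φ = K' := by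
    show (I.map (algebraMap A B)).map φ = ((I.map (algebraMap A A')).map (algebraMap A' B')).map (algebraMap B' C')
    rw [Ideal.map_map, Ideal.map_map, Ideal.map_map, hφA]
    congr 1
  obtain ⟨F, hF⟩ := Groth.AdicLinTop.CompletionQuot.exists_lift J K' φ hK'.le
  -- backward
  obtain ⟨G₀, hG₀⟩ := Groth.AdicLinTop.CompletionQuot.exists_lift I K (algebraMap A C) (by
    rw [IsScalarTower.algebraMap_eq A B C, ← Ideal.map_map])
  have hunit : ∀ y : q.asIdeal.primeCompl, IsUnit (G₀ y) := by
    rintro ⟨x, hx⟩
    obtain ⟨a, ha⟩ := surjective_mod I (Ideal.Quotient.mk _ x)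
    have hd : algebraMap A A' a - x ∈ I.map (algebraMap A A') := Ideal.Quotient.eq.1 ha
    have ha' : a ∉ q₀.asIdeal := fun h => hx (by
      have := q.asIdeal.sub_mem (show algebraMap A A' a ∈ q.asIdeal from h) (hq hd)
      rwa [sub_sub_cancel] at this)
    have hu : IsUnit (algebraMap A C a) := by
      rw [IsScalarTower.algebraMap_apply A B C]
      exact (IsLocalization.map_units B (⟨a, ha'⟩ : q₀.asIdeal.primeCompl)).map _
    have hmem : G₀ x - algebraMap A C a ∈ K := by
      have h1 := Ideal.mem_map_of_mem G₀ hd
      rw [Ideal.map_map, hG₀, IsScalarTower.algebraMap_eq A B C, ← Ideal.map_map] at h1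
      rw [map_sub, show G₀ (algebraMap A A' a) = algebraMap A C a from RingHom.congr_fun hG₀ a] at h1
      simpa using K.neg_mem h1
    obtain ⟨v, hv⟩ := hu
    have h2 : IsUnit (1 + ↑v⁻¹ * (G₀ x - algebraMap A C a)) := by
      have := Ideal.mem_jacobson_bot.1 ((IsAdicComplete.le_jacobson_bot K) hmem) ↑v⁻¹
      rwa [add_comm, mul_comm]
    have h3 : G₀ x = ↑v * (1 + ↑v⁻¹ * (G₀ x - algebraMap A C a)) := by
      rw [mul_add, mul_one, ← mul_assoc, Units.mul_inv, one_mul, hv]
      ring
    show IsUnit (G₀ x)
    rw [h3]
    exact v.isUnit.mul h2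
  let G₁ : B' →+* C := IsLocalization.lift hunit
  have hG₁ : G₁.comp (algebraMap A' B') = G₀ := IsLocalization.lift_comp hunit
  have hG₁A : G₁.comp (algebraMap A B') = algebraMap A C := by
    rw [IsScalarTower.algebraMap_eq A A' B', ← RingHom.comp_assoc, hG₁, hG₀]
  have hK : J'.map G₁ = K := by
    show ((I.map (algebraMap A A')).map (algebraMap A' B')).map G₁ = (I.map (algebraMap A B)).map (algebraMap B C)
    rw [Ideal.map_map, hG₁, Ideal.map_map, hG₀, Ideal.map_map, ← IsScalarTower.algebraMap_eq]
  obtain ⟨G, hG⟩ := Groth.AdicLinTop.CompletionQuot.exists_lift J' K G₁ hK.le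
  have hFA : F.comp (algebraMap A C) = algebraMap A C' := by
    rw [IsScalarTower.algebraMap_eq A B C, ← RingHom.comp_assoc, hF, hφA]
  have hGA : G.comp (algebraMap A C') = algebraMap A C := by
    rw [IsScalarTower.algebraMap_eq A B' C', ← RingHom.comp_assoc, hG, hG₁A]
  have hFK : K.map F = K' := by rw [Ideal.map_map, hF, hK']
  have hGK : K'.map G = K := by rw [Ideal.map_map, hG, hK]
  have e1 : G.comp F = RingHom.id C := by
    refine hom_ext (IsNoetherian.noetherian J) K _ _ ?_ ?_
    · refine IsLocalization.ringHom_ext q₀.asIdeal.primeCompl ?_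
      rw [RingHom.id_comp, RingHom.comp_assoc, RingHom.comp_assoc, ← IsScalarTower.algebraMap_eq, hFA, hGA]
    · rw [← Ideal.map_map, ← Ideal.map_map]
      exact ((Ideal.map_mono hFK.le).trans hGK.le)
  have e2 : F.comp G = RingHom.id C' := by
    refine hom_ext (IsNoetherian.noetherian J') K' _ _ ?_ ?_
    · refine IsLocalization.ringHom_ext q.asIdeal.primeCompl ?_
      refine hom_ext (IsNoetherian.noetherian I) K' _ _ ?_ ?_
      · simp only [RingHom.comp_assoc, ← IsScalarTower.algebraMap_eq]
        rw [hGA, hFA]
        exact (RingHom.id_comp _).symm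
      · simp only [RingHom.comp_assoc, ← IsScalarTower.algebraMap_eq]
        rw [hGA, hFA]
        show I.map (algebraMap A C') ≤ ((I.map (algebraMap A A')).map (algebraMap A' B')).map (algebraMap B' C')
        rw [Ideal.map_map, Ideal.map_map, ← IsScalarTower.algebraMap_eq, ← IsScalarTower.algebraMap_eq]
    · rw [← Ideal.map_map, ← Ideal.map_map]
      exact ((Ideal.map_mono hGK.le).trans hFK.le)
  exact ⟨AlgEquiv.ofRingEquiv (f := RingEquiv.ofRingHom F G e2 e1) fun a => RingHom.congr_fun hFA a⟩

/-- Depth of a localisation transported along a ring equivalence. -/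
theorem depth_localized_ringEquiv {R R' : Type u} [CommRing R] [CommRing R'] (e : R ≃+* R')
    {M M' : Type u} [AddCommGroup M] [AddCommGroup M'] [Module R M] [Module R' M'] (f : M ≃+ M')
    (hf : ∀ (r : R) (x : M), f (r • x) = e r • f x) (P : PrimeSpectrum R') :
    LocCoh.depth (Localization.AtPrime (PrimeSpectrum.comap e.toRingHom P).asIdeal)
        (LocalizedModule (PrimeSpectrum.comap e.toRingHom P).asIdeal.primeCompl M) =
      LocCoh.depth (Localization.AtPrime P.asIdeal) (LocalizedModule P.asIdeal.primeCompl M') := by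
  set p := PrimeSpectrum.comap e.toRingHom P
  have hS : p.asIdeal.primeCompl.map e.toMonoidHom = P.asIdeal.primeCompl := by
    ext y
    constructor
    · rintro ⟨x, hx, rfl⟩; exact hx
    · intro hy
      exact ⟨e.symm y, by show e (e.symm y) ∉ P.asIdeal; rw [e.apply_symm_apply]; exact hy, e.apply_symm_apply y⟩
  let ψ : Localization.AtPrime p.asIdeal ≃+* Localization.AtPrime P.asIdeal :=
    IsLocalization.ringEquivOfRingEquiv _ _ e hS
  let Y := LocalizedModule P.asIdeal.primeCompl M'
  letI : Module R Y := Module.compHom Y e.toRingHom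
  letI : Module (Localization.AtPrime p.asIdeal) Y := Module.compHom Y ψ.toRingHom
  haveI : IsScalarTower R (Localization.AtPrime p.asIdeal) Y :=
    IsScalarTower.of_algebraMap_smul fun a x => by
      show ψ (algebraMap R _ a) • x = e a • x
      rw [show ψ (algebraMap R _ a) = algebraMap R' _ (e a) from IsLocalization.ringEquivOfRingEquiv_eq hS a,
        algebraMap_smul]
  let g : M →ₗ[R] Y :=
    { toFun := fun m => LocalizedModule.mkLinearMap P.asIdeal.primeCompl M' (f m)
      map_add' := fun a b => by rw [map_add, map_add]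
      map_smul' := fun r m => by rw [hf, map_smul]; rfl }
  haveI : IsLocalizedModule p.asIdeal.primeCompl g := by
    constructor
    · intro s
      have hs : e s.1 ∈ P.asIdeal.primeCompl := s.2
      refine (Module.End.isUnit_iff _).2 ?_
      exact (Module.End.isUnit_iff (algebraMap R' (Module.End R' Y) (e s.1))).1
        (IsLocalizedModule.map_units (LocalizedModule.mkLinearMap P.asIdeal.primeCompl M') ⟨e s.1, hs⟩)
    · intro y
      obtain ⟨⟨m, s⟩, hms⟩ :=
        IsLocalizedModule.surj P.asIdeal.primeCompl (LocalizedModule.mkLinearMap P.asIdeal.primeCompl M') y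
      refine ⟨(f.symm m, ⟨e.symm s.1, ?_⟩), ?_⟩
      · show e (e.symm s.1) ∉ P.asIdeal
        rw [e.apply_symm_apply]; exact s.2
      · show e (e.symm s.1) • y = LocalizedModule.mkLinearMap P.asIdeal.primeCompl M' (f (f.symm m))
        rw [e.apply_symm_apply, f.apply_symm_apply]
        exact hms
    · intro x y hxy
      obtain ⟨s, hs⟩ := IsLocalizedModule.exists_of_eq (S := P.asIdeal.primeCompl)
        (f := LocalizedModule.mkLinearMap P.asIdeal.primeCompl M') hxy
      refine ⟨⟨e.symm s.1, by show e (e.symm s.1) ∉ P.asIdeal; rw [e.apply_symm_apply]; exact s.2⟩, ?_⟩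
      apply f.injective
      show f (e.symm s.1 • x) = f (e.symm s.1 • y)
      rw [hf, hf, e.apply_symm_apply]
      exact hs
  let i := (IsLocalizedModule.iso p.asIdeal.primeCompl g).extendScalarsOfIsLocalization p.asIdeal.primeCompl
    (Localization.AtPrime p.asIdeal)
  exact Groth.LocCohZBase.depth_eq_of_semilinear ψ i.toAddEquiv fun r x => i.map_smul r x

end Groth.SuppCx.CompletionLocalIso
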