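import Groth.Agent.DualCore.FiniteHomUnbounded
import Groth.Agent.DualCore.AtPrime
import Groth.Agent.DualCore.LocalPairingGeneral

/-!
`Hom(K, ω⟦i⟧) ⊗ B ≅ Hom(K ⊗ B, ω⟦i⟧ ⊗ B)` for `K` bounded below with finite cohomology.
-/

set_option autoImplicit false
set_option linter.unusedSectionVars false
set_option linter.style.haveILetI false

universe u

open CategoryTheory CategoryTheory.Limits CategoryTheory.Pretriangulated DerivedCategory TensorProduct

attribute [local instance] HasDerivedCategory.standard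
attribute [local instance] Groth.DualCore.homModuleA Groth.DualCore.homTowerA

namespace Groth.SuppCx

open Groth.DualCore

variable {A : Type u} [CommRing A]

/-- Precomposition by `T.obj₁ → T.obj₂` is bijective when the third object is orthogonal. -/
theorem bijective_pre_of_triangle (T : Triangle (Dual.D A)) (hT : T ∈ distTriang (Dual.D A)) (Y : Dual.D A)
    (h3 : ∀ v : T.obj₃ ⟶ Y, v = 0) (h3' : ∀ v : T.obj₃⟦(-1 : ℤ)⟧ ⟶ Y, v = 0) :
    Function.Bijective (fun u : T.obj₂ ⟶ Y => T.mor₁ ≫ u) := by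
  refine ⟨fun u v huv => ?_, fun w => ?_⟩
  · obtain ⟨t, ht⟩ := Triangle.yoneda_exact₂ T hT (u - v) (by
      rw [Preadditive.comp_sub, sub_eq_zero]; exact huv)
    rw [h3 t, comp_zero] at ht
    exact sub_eq_zero.1 ht
  · obtain ⟨t, ht⟩ := Triangle.yoneda_exact₂ T.invRotate (inv_rot_of_distTriang _ hT) w (h3' _)
    exact ⟨t, ht.symm⟩

variable [IsNoetherianRing A] {B : Type u} [CommRing B] [Algebra A B] [Module.Flat A B]

/-- Localisation of `Hom(K, ω⟦i⟧)`. -/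
theorem bijective_θ_of_isGE {ω : Dual.D A} (r : InjRep ω) (rB : InjRep ((extD A B).obj ω)) (K : Dual.D A)
    (a : ℤ) [IsGE K a] (hK : ∀ j, Module.Finite A (Dual.HD A K j)) (i : ℤ) :
    Function.Bijective (θ (B := B) K (ω⟦i⟧)) := by
  obtain ⟨p, hpa, hpr, hpB⟩ : ∃ p : ℤ, a ≤ p ∧ r.b < p + i - 1 ∧ rB.b < p + i - 1 :=
    ⟨max a (max (r.b - i + 2) (rB.b - i + 2)), le_max_left _ _, by omega, by omega⟩
  obtain ⟨T, hT, h1, h3, hT2, -, hfin⟩ := exists_truncation K p (p + 1) rfl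
  haveI := h1
  haveI := h3
  subst hT2
  haveI : IsGE T.obj₁ a := by
    rw [isGE_iff]
    intro j hj
    haveI : Mono ((homologyFunctor (ModuleCat.{u} A) j).map T.mor₁) :=
      (HomologySequence.mono_homologyMap_mor₁_iff T hT (j - 1) j (by lia)).2
        ((isZero_of_isGE T.obj₃ (p + 1) (j - 1) (by lia)).eq_of_src _ _)
    exact IsZero.of_mono ((homologyFunctor (ModuleCat.{u} A) j).map T.mor₁) (isZero_of_isGE T.obj₂ a j hj)
  haveI := r.isGE_self
  have hgood := good_of_bounded (B := B) T.obj₁ ω a p r.a (hfin hK).1 i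
  have hA : Function.Bijective (fun u : T.obj₂ ⟶ ω⟦i⟧ => T.mor₁ ≫ u) := by
    refine bijective_pre_of_triangle T hT _ (fun v => ?_) fun v => ?_
    · haveI := r.subsingleton_hom_of_isGE T.obj₃ (p + 1) i (by omega)
      exact Subsingleton.elim _ _
    · haveI : IsGE (T.obj₃⟦(-1 : ℤ)⟧) (p + 2) := TStructure.t.isGE_shift T.obj₃ (p + 1) (-1) (p + 2) (by lia)
      haveI := r.subsingleton_hom_of_isGE (T.obj₃⟦(-1 : ℤ)⟧) (p + 2) i (by omega)
      exact Subsingleton.elim _ _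
  have hB : Function.Bijective (fun u : (extD A B).obj T.obj₂ ⟶ (extD A B).obj (ω⟦i⟧) =>
      (extD A B).map T.mor₁ ≫ u) := by
    haveI : IsGE ((extD A B).obj T.obj₃) (p + 1) := isGE_extD T.obj₃ (p + 1)
    let e : (extD A B).obj (ω⟦i⟧) ≅ ((extD A B).obj ω)⟦i⟧ := ((extD A B).commShiftIso i).app ω
    refine bijective_pre_of_triangle ((extD A B).mapTriangle.obj T) ((extD A B).map_distinguished T hT) _
      (fun v => ?_) fun v => ?_
    · haveI := rB.subsingleton_hom_of_isGE ((extD A B).obj T.obj₃) (p + 1) i (by omega)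
      exact (cancel_mono e.hom).1 (Subsingleton.elim (α := (extD A B).obj T.obj₃ ⟶ ((extD A B).obj ω)⟦i⟧) _ _)
    · haveI : IsGE (((extD A B).obj T.obj₃)⟦(-1 : ℤ)⟧) (p + 2) :=
        TStructure.t.isGE_shift ((extD A B).obj T.obj₃) (p + 1) (-1) (p + 2) (by lia)
      haveI := rB.subsingleton_hom_of_isGE (((extD A B).obj T.obj₃)⟦(-1 : ℤ)⟧) (p + 2) i (by omega)
      exact (cancel_mono e.hom).1 (Subsingleton.elim
        (α := ((extD A B).obj T.obj₃)⟦(-1 : ℤ)⟧ ⟶ ((extD A B).obj ω)⟦i⟧) _ _)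
  let P : (T.obj₂ ⟶ ω⟦i⟧) →ₗ[A] (T.obj₁ ⟶ ω⟦i⟧) := Linear.leftComp A (ω⟦i⟧) T.mor₁
  let eP : B ⊗[A] (T.obj₂ ⟶ ω⟦i⟧) ≃ₗ[A] B ⊗[A] (T.obj₁ ⟶ ω⟦i⟧) :=
    TensorProduct.congr (LinearEquiv.refl A B) (LinearEquiv.ofBijective P hA)
  have hsq : ∀ z, θ (B := B) T.obj₁ (ω⟦i⟧) (eP z) = (extD A B).map T.mor₁ ≫ θ (B := B) T.obj₂ (ω⟦i⟧) z := by
    intro z
    induction z using TensorProduct.induction_on with
    | zero => simp
    | tmul b f =>
      show θ (B := B) T.obj₁ (ω⟦i⟧) (b ⊗ₜ[A] (T.mor₁ ≫ f)) = _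
      rw [θ_tmul, θ_tmul, Functor.map_comp, Linear.comp_smul]
    | add x y hx hy => rw [map_add, map_add, map_add, hx, hy, Preadditive.comp_add]
  refine ⟨fun x y hxy => eP.injective (hgood.1 ?_), fun v => ?_⟩
  · rw [hsq, hsq, hxy]
  · obtain ⟨z, hz⟩ := hgood.2 ((extD A B).map T.mor₁ ≫ v)
    obtain ⟨z, rfl⟩ := eP.surjective z
    exact ⟨z, hB.1 ((hsq z).symm.trans hz)⟩

/-- `Hom(K, ω⟦i⟧)` localized at a prime. -/
theorem smul_hom_atPrime_iff {ω : Dual.D A} (hω : Dual.IsDualizing A ω) (K : Dual.D A) (a : ℤ) [IsGE K a]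
    (hK : ∀ j, Module.Finite A (Dual.HD A K j)) (q : PrimeSpectrum A) (i : ℤ) (g : A) :
    (∀ v : (extD A (Localization.AtPrime q.asIdeal)).obj K ⟶
        ((extD A (Localization.AtPrime q.asIdeal)).obj ω)⟦i⟧,
      algebraMap A (Localization.AtPrime q.asIdeal) g • v = 0) ↔
      ∀ x : K ⟶ ω⟦i⟧, ∃ s ∉ q.asIdeal, (s * g) • x = 0 := by
  let B := Localization.AtPrime q.asIdeal
  haveI : IsNoetherianRing B := IsLocalization.isNoetherianRing q.asIdeal.primeCompl _ inferInstance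
  have hω' : Dual.IsDualizing B ((extD A B).obj ω) := isDualizing_atPrime q.asIdeal hω
  obtain ⟨a₁, b₁, h₁⟩ := hω.finite_injective_dimension
  obtain ⟨r⟩ := exists_injRep ω a₁ b₁ h₁
  obtain ⟨a₂, b₂, h₂⟩ := hω'.finite_injective_dimension
  obtain ⟨rB⟩ := exists_injRep _ a₂ b₂ h₂
  have hbij := bijective_θ_of_isGE r rB K a hK i
  let e : (extD A B).obj (ω⟦i⟧) ≅ ((extD A B).obj ω)⟦i⟧ := ((extD A B).commShiftIso i).app ω
  haveI : IsLocalizedModule q.asIdeal.primeCompl (TensorProduct.mk A B (K ⟶ ω⟦i⟧) 1) :=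
    (isLocalizedModule_iff_isBaseChange q.asIdeal.primeCompl B _).2 (TensorProduct.isBaseChange A _ B)
  have key : ∀ x : K ⟶ ω⟦i⟧, algebraMap A B g • (θ (B := B) K (ω⟦i⟧) (1 ⊗ₜ[A] x)) = 0 ↔
      ∃ s ∉ q.asIdeal, (s * g) • x = 0 := by
    intro x
    rw [← map_smul, algebraMap_smul, ← TensorProduct.tmul_smul]
    constructor
    · intro h
      have h0 : TensorProduct.mk A B (K ⟶ ω⟦i⟧) 1 (g • x) = TensorProduct.mk A B (K ⟶ ω⟦i⟧) 1 0 := by
        rw [map_zero]
        exact hbij.1 (h.trans (map_zero _).symm)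
      obtain ⟨⟨s, hs⟩, h1⟩ := (IsLocalizedModule.eq_iff_exists q.asIdeal.primeCompl _).1 h0
      refine ⟨s, hs, ?_⟩
      rw [Submonoid.smul_def, Submonoid.smul_def, smul_zero] at h1
      rw [mul_smul]
      exact h1
    · rintro ⟨s, hs, h1⟩
      have h0 : TensorProduct.mk A B (K ⟶ ω⟦i⟧) 1 (g • x) = TensorProduct.mk A B (K ⟶ ω⟦i⟧) 1 0 :=
        (IsLocalizedModule.eq_iff_exists q.asIdeal.primeCompl _).2 ⟨⟨s, hs⟩, by
          rw [Submonoid.smul_def, Submonoid.smul_def, smul_zero, ← mul_smul]; exact h1⟩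
      rw [map_zero] at h0
      show θ (B := B) K (ω⟦i⟧) (TensorProduct.mk A B (K ⟶ ω⟦i⟧) 1 (g • x)) = 0
      rw [h0, map_zero]
  constructor
  · intro h x
    refine (key x).1 ((cancel_mono e.hom).1 ?_)
    rw [Linear.smul_comp, zero_comp]
    exact h _
  · intro h v
    obtain ⟨z, hz⟩ := hbij.2 (v ≫ e.inv)
    have h0 : algebraMap A B g • θ (B := B) K (ω⟦i⟧) z = 0 := by
      clear hz
      induction z using TensorProduct.induction_on with
      | zero => rw [map_zero]; exact smul_zero _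
      | tmul b x =>
        rw [show b ⊗ₜ[A] x = b • ((1 : B) ⊗ₜ[A] x) by rw [TensorProduct.smul_tmul', smul_eq_mul, mul_one],
          map_smul, smul_comm, (key x).2 (h x), smul_zero]
      | add x y hx hy => rw [map_add, smul_add, hx, hy, add_zero]
    rw [hz, ← Linear.smul_comp] at h0
    exact (cancel_mono e.inv).1 (h0.trans zero_comp.symm)

end Groth.SuppCx
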