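import Groth.Agent.SuppCx.HDIRep
import Groth.Agent.SuppCx.LocalizeHom

/-!
Punctual annihilation through local duality.
-/

set_option autoImplicit false
set_option linter.unusedSectionVars false
set_option linter.style.haveILetI false

universe u

open CategoryTheory CategoryTheory.Limits DerivedCategory TensorProduct Groth.LocCohTransform.SupportExt
  Groth.DualCore IsLocalRing

attribute [local instance] HasDerivedCategory.standard

namespace Groth.SuppCx

variable {A : Type u} [CommRing A] [IsNoetherianRing A]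

section Loc

variable (q : PrimeSpectrum A)

/-- The localized complex. -/
noncomputable abbrev locC (C : CochainComplex (ModuleCat.{u} A) ℤ) :
    CochainComplex (ModuleCat.{u} (Localization.AtPrime q.asIdeal)) ℤ :=
  ((ext A (Localization.AtPrime q.asIdeal)).mapHomologicalComplex (ComplexShape.up ℤ)).obj C

/-- The localization map. -/
noncomputable abbrev lq (M : ModuleCat.{u} A) (m : M) :
    ((ext A (Localization.AtPrime q.asIdeal)).obj M : Type u) :=
  sharp (B := Localization.AtPrime q.asIdeal) M m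

theorem lq_add (M : ModuleCat.{u} A) (x y : M) : lq q M (x + y) = lq q M x + lq q M y := by
  rw [lq, lq, lq, sharp, sharp, sharp, TensorProduct.tmul_add, map_add]

theorem lq_smul (M : ModuleCat.{u} A) (a : A) (x : M) :
    lq q M (a • x) = algebraMap A (Localization.AtPrime q.asIdeal) a • lq q M x := by
  rw [lq, lq, sharp, sharp, ← map_smul, algebraMap_smul, TensorProduct.tmul_smul]

theorem lq_zero (M : ModuleCat.{u} A) : lq q M 0 = 0 := by
  rw [lq, sharp, TensorProduct.tmul_zero, map_zero]

theorem lq_eq_zero_iff (M : ModuleCat.{u} A) (x : M) :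
    lq q M x = 0 ↔ ∃ s ∉ q.asIdeal, s • x = 0 := by
  haveI : IsLocalizedModule q.asIdeal.primeCompl (TensorProduct.mk A (Localization.AtPrime q.asIdeal) M 1) :=
    (isLocalizedModule_iff_isBaseChange q.asIdeal.primeCompl (Localization.AtPrime q.asIdeal) _).2
      (TensorProduct.isBaseChange A M _)
  rw [lq, sharp, LinearEquiv.map_eq_zero_iff]
  constructor
  · intro h
    obtain ⟨⟨s, hs⟩, h1⟩ := (IsLocalizedModule.eq_zero_iff q.asIdeal.primeCompl
      (TensorProduct.mk A (Localization.AtPrime q.asIdeal) M 1)).1 h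
    exact ⟨s, hs, h1⟩
  · rintro ⟨s, hs, h1⟩
    exact (IsLocalizedModule.eq_zero_iff q.asIdeal.primeCompl
      (TensorProduct.mk A (Localization.AtPrime q.asIdeal) M 1)).2 ⟨⟨s, hs⟩, h1⟩

theorem exists_lq (M : ModuleCat.{u} A) (z : ((ext A (Localization.AtPrime q.asIdeal)).obj M : Type u)) :
    ∃ (s : A) (x : M), s ∉ q.asIdeal ∧ algebraMap A (Localization.AtPrime q.asIdeal) s • z = lq q M x := by
  haveI : IsLocalizedModule q.asIdeal.primeCompl (TensorProduct.mk A (Localization.AtPrime q.asIdeal) M 1) :=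
    (isLocalizedModule_iff_isBaseChange q.asIdeal.primeCompl (Localization.AtPrime q.asIdeal) _).2
      (TensorProduct.isBaseChange A M _)
  obtain ⟨⟨x, ⟨s, hs⟩⟩, h⟩ := IsLocalizedModule.surj q.asIdeal.primeCompl
    (TensorProduct.mk A (Localization.AtPrime q.asIdeal) M 1) ((extEquiv M).symm z)
  refine ⟨s, x, hs, ?_⟩
  rw [lq, sharp, ← show s • (extEquiv M).symm z = (1 : Localization.AtPrime q.asIdeal) ⊗ₜ[A] x from h,
    ← algebraMap_smul (Localization.AtPrime q.asIdeal) s ((extEquiv M).symm z), map_smul,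
    LinearEquiv.apply_symm_apply]

theorem isUnit_of_notMem {s : A} (hs : s ∉ q.asIdeal) :
    IsUnit (algebraMap A (Localization.AtPrime q.asIdeal) s) :=
  IsLocalization.map_units (Localization.AtPrime q.asIdeal) (⟨s, hs⟩ : q.asIdeal.primeCompl)

variable (C : CochainComplex (ModuleCat.{u} A) ℤ)

theorem locC_injective (hC : ∀ n, Module.Injective A (C.X n)) (n : ℤ) :
    Module.Injective (Localization.AtPrime q.asIdeal) ((locC q C).X n) := by
  haveI := hC n
  haveI : IsLocalizedModule q.asIdeal.primeCompl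
      (TensorProduct.mk A (Localization.AtPrime q.asIdeal) (C.X n) 1) :=
    (isLocalizedModule_iff_isBaseChange q.asIdeal.primeCompl (Localization.AtPrime q.asIdeal) _).2
      (TensorProduct.isBaseChange A (C.X n) _)
  haveI := Module.injective_of_isLocalizedModule q.asIdeal.primeCompl
    (Rₛ := Localization.AtPrime q.asIdeal) (TensorProduct.mk A (Localization.AtPrime q.asIdeal) (C.X n) 1)
  exact (Module.Baer.of_equiv (extEquiv (C.X n)) (Module.Baer.of_injective ‹_›)).injective

theorem locC_low {a : ℤ} (hlow : ∀ n < a, Subsingleton (C.X n)) (n : ℤ) (hn : n < a) :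
    Subsingleton ((locC q C).X n) := by
  refine ⟨fun x y => ?_⟩
  obtain ⟨s, x', hs, hx⟩ := exists_lq q (C.X n) (x - y)
  haveI := hlow n hn
  rw [Subsingleton.elim x' 0, lq_zero] at hx
  exact sub_eq_zero.1 ((isUnit_of_notMem q hs).smul_eq_zero.1 hx)

theorem locTor_iff (M : ModuleCat.{u} A) (y : M) :
    LocTor q y ↔ lq q M y ∈ Gam (closedT (Localization.AtPrime q.asIdeal))
      ((ext A (Localization.AtPrime q.asIdeal)).obj M : Type u) := by
  haveI : IsNoetherianRing (Localization.AtPrime q.asIdeal) :=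
    IsLocalization.isNoetherianRing q.asIdeal.primeCompl _ inferInstance
  constructor
  · rintro ⟨t, ht, k, hk⟩
    refine mem_gam_of_killed (J := maximalIdeal (Localization.AtPrime q.asIdeal) ^ k)
      (fun p hp => Ideal.IsPrime.le_of_pow_le (P := p.asIdeal) hp) fun b hb => ?_
    rw [← Localization.AtPrime.map_eq_maximalIdeal, ← Ideal.map_pow] at hb
    refine Submodule.span_induction (p := fun b _ => b • lq q M y = 0) ?_ ?_ ?_ ?_ hb
    · rintro _ ⟨a, ha, rfl⟩
      rw [← lq_smul, lq_eq_zero_iff]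
      exact ⟨t, ht, by rw [smul_comm]; exact hk a ha⟩
    · exact zero_smul _ _
    · intro a b _ _ h1 h2; rw [add_smul, h1, h2, add_zero]
    · intro r a _ h; rw [smul_eq_mul, mul_smul, h, smul_zero]
  · intro h
    classical
    obtain ⟨k, hk⟩ := exists_pow_le (zeroLocus_ann_subset h)
    obtain ⟨F, hF⟩ := IsNoetherian.noetherian (q.asIdeal ^ k)
    have key : ∀ a : F, ∃ t ∉ q.asIdeal, t • a.1 • y = 0 := by
      intro a
      rw [← lq_eq_zero_iff, lq_smul]
      refine hk ?_
      rw [← Localization.AtPrime.map_eq_maximalIdeal, ← Ideal.map_pow]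
      exact Ideal.mem_map_of_mem _ (hF ▸ Submodule.subset_span a.2)
    choose t ht hty using key
    refine ⟨∏ a ∈ F.attach, t a, fun h => ?_, k, fun a ha => ?_⟩
    · obtain ⟨a, -, h'⟩ := Ideal.IsPrime.prod_mem_iff.1 h
      exact ht a h'
    · rw [← hF] at ha
      induction ha using Submodule.span_induction with
      | mem a ha =>
        obtain ⟨c, hc⟩ := Finset.dvd_prod_of_mem t (Finset.mem_attach F ⟨a, ha⟩)
        rw [hc, smul_comm, mul_comm, mul_smul, hty ⟨a, ha⟩, smul_zero]
      | zero => exact zero_smul _ _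
      | add x z _ _ hx hz => rw [add_smul, hx, hz, add_zero]
      | smul r x _ hx => rw [smul_eq_mul, mul_smul, hx, smul_zero]

/-- The localization map into the terms of the localized complex. -/
noncomputable def lqC (i : ℤ) (x : C.X i) : (locC q C).X i := lq q (C.X i) x

theorem lqC_add (i : ℤ) (x y : C.X i) : lqC q C i (x + y) = lqC q C i x + lqC q C i y := lq_add q _ x y

theorem lqC_smul (i : ℤ) (a : A) (x : C.X i) :
    lqC q C i (a • x) = algebraMap A (Localization.AtPrime q.asIdeal) a • lqC q C i x := lq_smul q _ a x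

theorem lqC_eq_zero_iff (i : ℤ) (x : C.X i) : lqC q C i x = 0 ↔ ∃ s ∉ q.asIdeal, s • x = 0 :=
  lq_eq_zero_iff q _ x

theorem exists_lqC (i : ℤ) (z : (locC q C).X i) :
    ∃ (s : A) (x : C.X i), s ∉ q.asIdeal ∧ algebraMap A (Localization.AtPrime q.asIdeal) s • z = lqC q C i x :=
  exists_lq q _ z

theorem lqC_d (i j : ℤ) (x : C.X i) :
    ((locC q C).d i j).hom (lqC q C i x) = lqC q C j ((C.d i j).hom x) :=
  ext_map_sharp _ x

theorem lqC_locTor (i : ℤ) (y : C.X i) :
    LocTor q y ↔ lqC q C i y ∈ gamC (closedT (Localization.AtPrime q.asIdeal)) (locC q C) i :=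
  locTor_iff q _ y

theorem locKills_iff (g : A) (i : ℤ) :
    LocKills C q g i ↔ Kills (locC q C) (gamC (closedT (Localization.AtPrime q.asIdeal)) (locC q C))
      (algebraMap A (Localization.AtPrime q.asIdeal) g) i := by
  constructor
  · intro H j k hj hk z hz hdz
    obtain ⟨s, x, hs, hx⟩ := exists_lqC q C i z
    have hxT : LocTor q x := (lqC_locTor q C i x).2 (hx ▸ Submodule.smul_mem _ _ hz)
    have hdx : ∃ t ∉ q.asIdeal, t • (C.d i k).hom x = 0 := by
      rw [← lqC_eq_zero_iff q C k, ← lqC_d, ← hx, map_smul, hdz, smul_zero]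
    obtain ⟨t, ht, e, ⟨l, he⟩, hde⟩ := H hj hk x hxT hdx
    obtain ⟨w, hw⟩ := ((isUnit_of_notMem q ht).mul (isUnit_of_notMem q hs)).exists_left_inv
    refine mem_Bc.2 ⟨w • lqC q C j e, Submodule.smul_mem _ _
      ((lqC_locTor q C j e).1 ⟨1, q.asIdeal.primeCompl.one_mem, l, fun a ha => by rw [one_smul, he a ha]⟩), ?_⟩
    rw [map_smul, lqC_d, hde, lqC_smul, lqC_smul, ← hx, smul_smul, smul_smul, smul_smul]
    congr 1
    linear_combination (algebraMap A (Localization.AtPrime q.asIdeal) g) * hw
  · intro H j k hj hk y hy hdy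
    have hdy' : ((locC q C).d i k).hom (lqC q C i y) = 0 := by
      rw [lqC_d]
      exact (lqC_eq_zero_iff q C k _).2 hdy
    obtain ⟨w, hw, hwy⟩ := mem_Bc.1 (H hj hk _ ((lqC_locTor q C i y).1 hy) hdy')
    obtain ⟨s, e, hs, he⟩ := exists_lqC q C j w
    obtain ⟨t, ht, l, hl⟩ := (lqC_locTor q C j e).2 (he ▸ Submodule.smul_mem _ _ hw)
    have h0 : lqC q C i ((C.d j i).hom e) = lqC q C i ((s * g) • y) := by
      rw [← lqC_d, ← he, map_smul, hwy, lqC_smul, map_mul, mul_smul]
    obtain ⟨u', hu, hue⟩ := (lqC_eq_zero_iff q C i ((C.d j i).hom e + (-1 : A) • ((s * g) • y))).1 (by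
      rw [lqC_add, lqC_smul, h0, map_neg, map_one, neg_smul, one_smul, add_neg_cancel])
    refine ⟨u' * t * s, q.asIdeal.primeCompl.mul_mem (q.asIdeal.primeCompl.mul_mem hu ht) hs, (u' * t) • e,
      ⟨l, fun a ha => by rw [mul_smul, smul_comm a, hl a ha, smul_zero]⟩, ?_⟩
    rw [neg_smul, one_smul, smul_add, smul_neg, add_neg_eq_zero] at hue
    rw [map_smul, mul_comm u' t, mul_smul t u', hue, smul_smul, smul_smul, smul_smul]
    congr 1
    ring

end Loc

section Duality

variable {ω : Dual.D A} (hω : Dual.IsDualizing A ω) {C : CochainComplex (ModuleCat.{u} A) ℤ}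
  (hC : ∀ n, Module.Injective A (C.X n)) {a : ℤ} (hlow : ∀ n < a, Subsingleton (C.X n)) {K : Dual.D A}
  (e : Q.obj C ≅ K) (hK : ∀ j, Module.Finite A (Dual.HD A K j))

include hω hC hlow e hK

/-- Local duality at `q`: punctual annihilation and annihilation on `HDI`. -/
theorem smul_HDI_eq_zero_iff (q : PrimeSpectrum A) (i : ℤ) (g : A) :
    (∀ y : Dual2.HDI (Localization.AtPrime q.asIdeal) (maximalIdeal (Localization.AtPrime q.asIdeal))
        ((extD A (Localization.AtPrime q.asIdeal)).obj K) i,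
      algebraMap A (Localization.AtPrime q.asIdeal) g • y = 0) ↔
      ∀ x : K ⟶ ω⟦degree hω q - i⟧, ∃ s ∉ q.asIdeal, (s * g) • x = 0 := by
  let B := Localization.AtPrime q.asIdeal
  haveI : IsNoetherianRing B := IsLocalization.isNoetherianRing q.asIdeal.primeCompl _ inferInstance
  haveI : IsGE K a := by
    rw [isGE_iff]
    intro j hj
    refine IsZero.of_iso ?_ ((homologyFunctor (ModuleCat.{u} A) j).mapIso e.symm ≪≫
      (homologyFunctorFactors (ModuleCat.{u} A) j).app C)
    exact (C.exactAt_iff_isZero_homology j).1 (ShortComplex.exact_of_isZero_X₂ _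
      (haveI := hlow j hj; (ModuleCat.isZero_of_subsingleton (C.X j))))
  have hω' : Dual.IsDualizing B (((extD A B).obj ω)⟦degree hω q⟧) :=
    isDualizing_shift (isDualizing_atPrime q.asIdeal hω) _
  have hn := isNormalized_degree hω q
  obtain ⟨E, _, _, f, hf⟩ := GrothMatlis.exists_hull B (ResidueField B)
  have hfinK : ∀ j, Module.Finite B (Dual.HD B ((extD A B).obj K) j) := fun j =>
    haveI := hK j
    finite_HD_extD K j
  obtain ⟨D⟩ := nonempty_HDI_equiv hω' hn hf ((extD A B).obj K) hfinK i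
  let σ := homShiftEquiv ((extD A B).obj K) ((extD A B).obj ω) (degree hω q) (degree hω q - i) (-i)
    (sub_eq_add_neg _ _).symm
  rw [← smul_hom_atPrime_iff hω K a hK q (degree hω q - i) g]
  have hsep : ∀ x : (extD A B).obj K ⟶ ((extD A B).obj ω)⟦degree hω q⟧⟦-i⟧,
      (∀ φ : ((extD A B).obj K ⟶ ((extD A B).obj ω)⟦degree hω q⟧⟦-i⟧) →ₗ[B] E, φ x = 0) → x = 0 := by
    intro x hx
    by_contra hne
    let P : B →ₗ[B] ((extD A B).obj K ⟶ ((extD A B).obj ω)⟦degree hω q⟧⟦-i⟧) := LinearMap.toSpanSingleton B _ x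
    have hle : LinearMap.ker P ≤ maximalIdeal B := le_maximalIdeal fun h => hne (by
      have h1 : (1 : B) ∈ LinearMap.ker P := h ▸ trivial
      simpa [P] using h1)
    let ι : (B ⧸ LinearMap.ker P) →ₗ[B] ((extD A B).obj K ⟶ ((extD A B).obj ω)⟦degree hω q⟧⟦-i⟧) :=
      (LinearMap.ker P).liftQ P le_rfl
    let χ : (B ⧸ LinearMap.ker P) →ₗ[B] E := f ∘ₗ Submodule.mapQ _ (maximalIdeal B) LinearMap.id hle
    obtain ⟨ψ, hψ⟩ := (Module.Baer.of_injective hf.isInjective).extension_property ι
      (LinearMap.ker_eq_bot.1 (Submodule.ker_liftQ_eq_bot _ _ _ le_rfl)) χ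
    have h1 : ψ (ι (Submodule.Quotient.mk 1)) = χ (Submodule.Quotient.mk 1) := LinearMap.congr_fun hψ _
    rw [show ι (Submodule.Quotient.mk 1) = x from one_smul B x, hx ψ] at h1
    have h2 : f (Submodule.Quotient.mk (p := maximalIdeal B) 1) = 0 := h1.symm
    rw [← map_zero f] at h2
    exact (Submodule.Quotient.mk_eq_zero _).1 (hf.injective h2) |> fun h => (maximalIdeal.isMaximal B).ne_top
      ((Ideal.eq_top_iff_one _).2 h)
  constructor
  · intro h v
    refine σ.symm.injective ?_
    rw [map_zero, map_smul]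
    refine hsep _ fun φ => ?_
    obtain ⟨y, rfl⟩ := D.surjective φ
    rw [map_smul, ← LinearMap.smul_apply, ← map_smul, h y, map_zero, LinearMap.zero_apply]
  · intro h y
    refine D.injective (LinearMap.ext fun v => ?_)
    rw [map_smul, map_zero, LinearMap.smul_apply, ← map_smul, LinearMap.zero_apply]
    rw [show algebraMap A B g • v = 0 from σ.injective (by rw [map_smul, map_zero]; exact h (σ v)), map_zero]

/-- Punctual annihilation in terms of `Hom(K, ω⟦m⟧)`. -/
theorem locKills_iff_hom (q : PrimeSpectrum A) (i : ℤ) (g : A) :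
    LocKills C q g i ↔ ∀ x : K ⟶ ω⟦degree hω q - i⟧, ∃ s ∉ q.asIdeal, (s * g) • x = 0 := by
  let B := Localization.AtPrime q.asIdeal
  haveI : IsNoetherianRing B := IsLocalization.isNoetherianRing q.asIdeal.primeCompl _ inferInstance
  rw [← smul_HDI_eq_zero_iff hω hC hlow e hK q i g, locKills_iff,
    kills_iff _ (sub_add_cancel i 1) rfl]
  haveI : ∀ n, Injective ((locC q C).X n) := fun n =>
    (Module.injective_iff_injective_object B ((locC q C).X n)).1 (locC_injective q C hC n)
  haveI : (locC q C).IsStrictlyGE a := by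
    rw [CochainComplex.isStrictlyGE_iff]
    exact fun n hn => haveI := locC_low q C hlow n hn; ModuleCat.isZero_of_subsingleton _
  haveI : (locC q C).IsKInjective := CochainComplex.isKInjective_of_injective _ a
  obtain ⟨F⟩ := nonempty_HDI_equiv_Hc (C := locC q C)
    (((ext A B).mapDerivedCategoryFactors.app C).symm ≪≫ (extD A B).mapIso e) (sub_add_cancel i 1)
    (k := i + 1) rfl
  exact ⟨fun h y => F.injective (by rw [map_smul, h, map_zero]),
    fun h z => F.symm.injective (by rw [map_smul, h, map_zero])⟩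

end Duality

end Groth.SuppCx
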