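import Groth.Agent.LocCohTransform.SupportLocal
import Mathlib.Algebra.Homology.HomotopyCategory

/-!
Elementwise cohomology of a family of subobjects of a complex of modules; the passage from punctual
annihilation to annihilation with supports in a specialization stable subset.
-/

set_option autoImplicit false
set_option linter.unusedSectionVars false
set_option linter.style.haveILetI false

universe u

open CategoryTheory Groth.LocCohTransform.SupportExt

namespace Groth.SuppCx

variable {A : Type u} [CommRing A] (C : CochainComplex (ModuleCat.{u} A) ℤ)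

/-- Cocycles in a family of submodules. -/
def Zc (S : ∀ n, Submodule A (C.X n)) (i k : ℤ) : Submodule A (C.X i) := S i ⊓ LinearMap.ker (C.d i k).hom

/-- Coboundaries of a family of submodules. -/
def Bc (S : ∀ n, Submodule A (C.X n)) (j i : ℤ) : Submodule A (C.X i) := (S j).map (C.d j i).hom

/-- Cohomology of a family of submodules at three consecutive degrees. -/
abbrev Hc (S : ∀ n, Submodule A (C.X n)) (j i k : ℤ) : Type u :=
  Zc C S i k ⧸ (Bc C S j i).comap (Zc C S i k).subtype

/-- `g` annihilates the cohomology in degree `i`. -/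
def Kills (S : ∀ n, Submodule A (C.X n)) (g : A) (i : ℤ) : Prop :=
  ∀ ⦃j k : ℤ⦄, j + 1 = i → i + 1 = k → ∀ x ∈ S i, (C.d i k).hom x = 0 → g • x ∈ Bc C S j i

variable {C} {S : ∀ n, Submodule A (C.X n)}

theorem mem_Zc {i k : ℤ} {x : C.X i} : x ∈ Zc C S i k ↔ x ∈ S i ∧ (C.d i k).hom x = 0 := Iff.rfl

theorem mem_Bc {j i : ℤ} {x : C.X i} : x ∈ Bc C S j i ↔ ∃ y ∈ S j, (C.d j i).hom y = x := Iff.rfl

theorem d_d_apply (j i k : ℤ) (x : C.X j) : (C.d i k).hom ((C.d j i).hom x) = 0 :=
  congr(($(C.d_comp_d j i k)).hom x)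

theorem kills_iff (g : A) {j i k : ℤ} (hj : j + 1 = i) (hk : i + 1 = k) :
    Kills C S g i ↔ ∀ h : Hc C S j i k, g • h = 0 := by
  constructor
  · intro H h
    obtain ⟨⟨x, hx⟩, rfl⟩ := Submodule.Quotient.mk_surjective _ h
    rw [← Submodule.Quotient.mk_smul, Submodule.Quotient.mk_eq_zero]
    exact H hj hk x hx.1 hx.2
  · intro H j' k' hj' hk' x hx hdx
    obtain rfl : j' = j := by omega
    obtain rfl : k' = k := by omega
    have := H (Submodule.Quotient.mk ⟨x, hx, hdx⟩)
    rwa [← Submodule.Quotient.mk_smul, Submodule.Quotient.mk_eq_zero] at this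

/-- The elements annihilating the cohomology in degree `i`. -/
def killIdeal (C : CochainComplex (ModuleCat.{u} A) ℤ) (S : ∀ n, Submodule A (C.X n)) (i : ℤ) : Ideal A where
  carrier := {g | Kills C S g i}
  add_mem' := fun {a b} ha hb j k hj hk x hx hdx => by
    rw [add_smul]
    exact Submodule.add_mem _ (ha hj hk x hx hdx) (hb hj hk x hx hdx)
  zero_mem' := fun j k _ _ x _ _ => by rw [zero_smul]; exact Submodule.zero_mem _
  smul_mem' := fun r {a} ha j k hj hk x hx hdx => by
    rw [smul_eq_mul, mul_smul]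
    exact Submodule.smul_mem _ r (ha hj hk x hx hdx)

theorem mem_killIdeal {g : A} {i : ℤ} : g ∈ killIdeal C S i ↔ Kills C S g i := Iff.rfl

/-- The sections supported in `T`, termwise. -/
abbrev gamC (T : Set (PrimeSpectrum A)) (C : CochainComplex (ModuleCat.{u} A) ℤ) :
    ∀ n, Submodule A (C.X n) :=
  fun n => Gam T (C.X n)

/-- All sections, termwise. -/
abbrev topC (C : CochainComplex (ModuleCat.{u} A) ℤ) : ∀ n, Submodule A (C.X n) := fun _ => ⊤

theorem d_mem_gam (T : Set (PrimeSpectrum A)) {i j : ℤ} {x : C.X i} (hx : x ∈ gamC T C i) :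
    (C.d i j).hom x ∈ gamC T C j :=
  map_mem_gam (C.d i j).hom hx

variable [IsNoetherianRing A]

/-- A section supported in `T` is torsion at the minimal points of `T`. -/
theorem locTor_of_minimal {T : Set (PrimeSpectrum A)} {M : Type u} [AddCommGroup M] [Module A M] {y : M}
    (hy : y ∈ Gam T M) {p : PrimeSpectrum A} (hp : p ∈ T) (hmin : p ∉ next T)
    (hann : LinearMap.ker (LinearMap.toSpanSingleton A M y) ≤ p.asIdeal) : LocTor p y := by
  classical
  set ann : Ideal A := LinearMap.ker (LinearMap.toSpanSingleton A M y)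
  have hminp : p.asIdeal ∈ ann.minimalPrimes := by
    refine ⟨⟨p.2, hann⟩, fun q hq hqp => ?_⟩
    by_contra hne
    exact hmin ⟨hp, ⟨q, hq.1⟩, zeroLocus_ann_subset hy hq.2, lt_of_le_not_ge hqp hne⟩
  have hrad : IsLocalRing.maximalIdeal (Localization.AtPrime p.asIdeal) ≤
      (ann.map (algebraMap A (Localization.AtPrime p.asIdeal))).radical := by
    rw [Ideal.radical_eq_sInf]
    refine le_sInf fun Q hQ => ?_
    have hQp : Q.comap (algebraMap A _) ≤ p.asIdeal :=
      ((IsLocalization.AtPrime.orderIsoOfPrime (Localization.AtPrime p.asIdeal) p.asIdeal) ⟨Q, hQ.2⟩).2.2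
    have h1 : ann ≤ Q.comap (algebraMap A _) := fun a ha => hQ.1 (Ideal.mem_map_of_mem _ ha)
    have := hQ.2
    have h2 : p.asIdeal ≤ Q.comap (algebraMap A _) := hminp.2 ⟨Ideal.IsPrime.comap _, h1⟩ hQp
    rw [← Localization.AtPrime.map_eq_maximalIdeal]
    exact Ideal.map_le_iff_le_comap.2 h2
  obtain ⟨k, hk⟩ := Ideal.exists_pow_le_of_le_radical_of_fg hrad (IsNoetherian.noetherian _)
  have key : ∀ a ∈ p.asIdeal ^ k, ∃ t ∉ p.asIdeal, t • a • y = 0 := by
    intro a ha
    have : algebraMap A (Localization.AtPrime p.asIdeal) a ∈ ann.map (algebraMap A _) := hk (by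
      rw [← Localization.AtPrime.map_eq_maximalIdeal, ← Ideal.map_pow]
      exact Ideal.mem_map_of_mem _ ha)
    obtain ⟨t, ht, h⟩ := (IsLocalization.algebraMap_mem_map_algebraMap_iff p.asIdeal.primeCompl _ ann a).1 this
    exact ⟨t, ht, (mul_smul t a y).symm.trans h⟩
  obtain ⟨F, hF⟩ := IsNoetherian.noetherian (p.asIdeal ^ k)
  choose t ht hty using fun a : F => key a.1 (hF ▸ Submodule.subset_span a.2)
  refine ⟨∏ a ∈ F.attach, t a, fun h => ?_, k, fun a ha => ?_⟩
  · obtain ⟨a, -, h'⟩ := Ideal.IsPrime.prod_mem_iff.1 h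
    exact ht a h'
  · rw [← hF] at ha
    induction ha using Submodule.span_induction with
    | mem a ha =>
      obtain ⟨c, hc⟩ := Finset.dvd_prod_of_mem t (Finset.mem_attach F ⟨a, ha⟩)
      rw [hc, smul_comm, mul_comm, mul_smul, hty ⟨a, ha⟩, smul_zero]
    | zero => exact zero_smul _ _
    | add x z _ _ hx hz => rw [add_smul, hx, hz, add_zero]
    | smul r x _ hx => rw [smul_eq_mul, mul_smul, hx, smul_zero]

/-- `y` is, at `p`, the image under `f` of a torsion element. -/
def LocImage (p : PrimeSpectrum A) {X Y : Type u} [AddCommGroup X] [Module A X] [AddCommGroup Y] [Module A Y]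
    (f : X →ₗ[A] Y) (y : Y) : Prop :=
  ∃ s ∉ p.asIdeal, ∃ e : X, (∃ k : ℕ, ∀ a ∈ p.asIdeal ^ k, a • e = 0) ∧ f e = s • y

/-- Correction by a boundary supported in `T`. -/
theorem exists_gam_correction {T : Set (PrimeSpectrum A)} (hT : StableUnderSpecialization T)
    {X Y : Type u} [AddCommGroup X] [Module A X] [Module.Injective A X] [AddCommGroup Y] [Module A Y]
    (f : X →ₗ[A] Y) {y : Y} (hy : y ∈ Gam T Y)
    (hloc : ∀ p ∈ T, p ∉ next T → LocTor p y → LocImage p f y) :
    ∃ w ∈ Gam T X, y - f w ∈ Gam (next T) Y := by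
  classical
  set ann : Ideal A := LinearMap.ker (LinearMap.toSpanSingleton A Y y) with hann
  have hmem : ∀ a : A, a ∈ ann ↔ a • y = 0 := fun a => Iff.rfl
  let F : Set (PrimeSpectrum A) := {p | p ∈ T ∧ p ∉ next T ∧ ann ≤ p.asIdeal}
  have hF : F.Finite := by
    refine Set.Finite.of_injOn (f := PrimeSpectrum.asIdeal) (fun p hp => ?_)
      (fun a _ b _ h => PrimeSpectrum.ext h) ann.finite_minimalPrimes_of_isNoetherianRing
    refine ⟨⟨p.2, hp.2.2⟩, fun q hq hqp => ?_⟩
    by_contra hne
    exact hp.2.1 ⟨hp.1, ⟨q, hq.1⟩, zeroLocus_ann_subset hy hq.2, lt_of_le_not_ge hqp hne⟩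
  -- divide the local preimages
  have hdiv : ∀ p : F, ∃ e : X, (∃ k : ℕ, ∀ a ∈ p.1.asIdeal ^ k, a • e = 0) ∧
      ∃ s ∉ p.1.asIdeal, s • (y - f e) = 0 := by
    intro p
    obtain ⟨s, hs, e, ⟨k, hk⟩, he⟩ := hloc p.1 p.2.1 p.2.2.1 (locTor_of_minimal hy p.2.1 p.2.2.1 p.2.2.2)
    haveI : Injective (ModuleCat.of A X) := Module.injective_object_of_injective_module A X
    obtain ⟨e', hk', he'⟩ := exists_torsion_lift' p.1 (X := ModuleCat.of A X) (k := k)
      (LocalizedModule.mk e ⟨s, hs⟩)
      (pow_smul_mk p.1 ⟨s, hs⟩ fun a ha => ⟨1, p.1.asIdeal.primeCompl.one_mem, by rw [hk a ha, smul_zero]⟩)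
    obtain ⟨⟨t, ht⟩, h⟩ := LocalizedModule.mk_eq.1 he'
    simp only [Submonoid.smul_def, one_smul] at h
    refine ⟨e', ⟨k, hk'⟩, t * s, p.1.asIdeal.primeCompl.mul_mem ht hs, ?_⟩
    rw [smul_sub, mul_smul, mul_smul, sub_eq_zero, ← he, ← map_smul, ← map_smul, ← map_smul, h]
  choose e he s hs hse using hdiv
  choose k hk using he
  have := hF.fintype
  have heT : ∀ p : F, e p ∈ Gam T X := fun p =>
    mem_gam_of_killed (J := p.1.asIdeal ^ k p) (fun q hq => hT
      ((PrimeSpectrum.le_iff_specializes p.1 q).1 (Ideal.IsPrime.le_of_pow_le hq)) p.2.1) (hk p)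
  refine ⟨∑ p, e p, Submodule.sum_mem _ fun p _ => heT p, fun q hq => ?_⟩
  by_cases hqT : q ∈ T
  · have hother : ∀ p : F, p.1 ≠ q → ∃ a ∉ q.asIdeal, a • e p = 0 := by
      intro p hne
      obtain ⟨a, ha, haq⟩ := SetLike.not_le_iff_exists.1 (show ¬ p.1.asIdeal ^ k p ≤ q.asIdeal from fun h =>
        hq ⟨hqT, p.1, p.2.1, lt_of_le_of_ne (Ideal.IsPrime.le_of_pow_le h) hne⟩)
      exact ⟨a, haq, hk p a ha⟩
    choose a haq hae using hother
    let P : A := ∏ p : F, if h : p.1 = q then 1 else a p h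
    have hP : P ∉ q.asIdeal := fun h => by
      obtain ⟨p, -, hp⟩ := Ideal.IsPrime.prod_mem_iff.1 h
      split_ifs at hp with h'
      · exact q.asIdeal.primeCompl.one_mem hp
      · exact haq p h' hp
    have hPe : ∀ p : F, p.1 ≠ q → P • e p = 0 := fun p hne => by
      obtain ⟨c, hc⟩ := Finset.dvd_prod_of_mem (fun p : F => if h : p.1 = q then (1 : A) else a p h)
        (Finset.mem_univ p)
      rw [dif_neg hne] at hc
      show (∏ p : F, if h : p.1 = q then (1 : A) else a p h) • e p = 0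
      rw [hc, mul_comm, mul_smul, hae p hne, smul_zero]
    by_cases hann' : ann ≤ q.asIdeal
    · let q' : F := ⟨q, hqT, hq, hann'⟩
      refine ⟨s q' * P, q.asIdeal.primeCompl.mul_mem (hs q') hP, ?_⟩
      have hsum : P • (∑ p, e p) = P • e q' := by
        rw [Finset.smul_sum, Finset.sum_eq_single q' (fun p _ hne => hPe p fun h => hne (Subtype.ext h))
          (fun h => absurd (Finset.mem_univ _) h)]
      rw [smul_sub, ← map_smul, mul_smul (s q'), mul_smul (s q') P (∑ p, e p), hsum, map_smul, map_smul,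
        ← smul_sub, ← smul_sub, smul_comm, hse q', smul_zero]
    · obtain ⟨t, ht, htq⟩ := SetLike.not_le_iff_exists.1 hann'
      refine ⟨t * P, q.asIdeal.primeCompl.mul_mem htq hP, ?_⟩
      have hsum : P • (∑ p, e p) = 0 := by
        rw [Finset.smul_sum]
        exact Finset.sum_eq_zero fun p _ => hPe p fun h => hann' (h ▸ p.2.2.2)
      rw [smul_sub, ← map_smul, mul_smul t P (∑ p, e p), hsum, smul_zero, map_zero, sub_zero, mul_comm,
        mul_smul, (hmem t).1 ht, smul_zero]
  · obtain ⟨t, ht, h⟩ := Submodule.sub_mem _ hy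
      (map_mem_gam f (Submodule.sum_mem _ fun p _ => heT p)) q hqT
    exact ⟨t, ht, h⟩

/-- `g` annihilates the punctual cohomology at `q` in degree `i`. -/
def LocKills (C : CochainComplex (ModuleCat.{u} A) ℤ) (q : PrimeSpectrum A) (g : A) (i : ℤ) : Prop :=
  ∀ ⦃j k : ℤ⦄, j + 1 = i → i + 1 = k → ∀ y : C.X i, LocTor q y →
    (∃ s ∉ q.asIdeal, s • (C.d i k).hom y = 0) → LocImage q (C.d j i).hom (g • y)

theorem locTor_smul {q : PrimeSpectrum A} {X : Type u} [AddCommGroup X] [Module A X] {y : X}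
    (h : LocTor q y) (g : A) : LocTor q (g • y) := by
  obtain ⟨t, ht, k, hk⟩ := h
  exact ⟨t, ht, k, fun a ha => by rw [smul_comm t, smul_comm a, hk a ha, smul_zero]⟩

/-- If `g` annihilates all the punctual cohomology on `T` in degree `i`, a power of `g` annihilates the
cohomology with supports in `T`. -/
theorem kills_of_local [hC : ∀ n, Module.Injective A (C.X n)] (g : A) (i : ℤ) :
    ∀ (N : ℕ) {T : Set (PrimeSpectrum A)}, StableUnderSpecialization T →
      (∀ s : LTSeries ↥T, s.length < N) → (∀ q ∈ T, LocKills C q g i) →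
      Kills C (gamC T C) (g ^ N) i := by
  intro N
  induction N with
  | zero =>
    intro T _ hN _ j k _ _ x hx _
    rw [eq_empty_of_chain hN] at hx
    rw [eq_zero_of_mem_gam_empty hx, smul_zero]
    exact Submodule.zero_mem _
  | succ N ih =>
    intro T hT hN hloc j k hj hk x hx hdx
    haveI := hC j
    obtain ⟨w, hw, hwx⟩ := exists_gam_correction hT (C.d j i).hom (Submodule.smul_mem _ g hx) (fun p hp hpn _ => by
      by_cases hann : LinearMap.ker (LinearMap.toSpanSingleton A (C.X i) x) ≤ p.asIdeal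
      · exact hloc p hp hj hk x (locTor_of_minimal hx hp hpn hann)
          ⟨1, p.asIdeal.primeCompl.one_mem, by rw [hdx, smul_zero]⟩
      · obtain ⟨t, ht, htp⟩ := SetLike.not_le_iff_exists.1 hann
        refine ⟨t, htp, 0, ⟨0, fun a _ => smul_zero a⟩, ?_⟩
        rw [map_zero, smul_comm, show t • x = 0 from ht, smul_zero])
    have hc : (C.d i k).hom (g • x - (C.d j i).hom w) = 0 := by
      rw [map_sub, map_smul, hdx, smul_zero, d_d_apply, sub_zero]
    obtain ⟨v, hv, hv'⟩ := mem_Bc.1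
      (ih (next_stable hT) (chain_next hN) (fun q hq => hloc q hq.1) hj hk _ hwx hc)
    refine mem_Bc.2 ⟨v + g ^ N • w, Submodule.add_mem _ (gam_mono (next_subset T) hv) (Submodule.smul_mem _ _ hw), ?_⟩
    rw [map_add, hv', map_smul, ← smul_add, sub_add_cancel, smul_smul, ← pow_succ]

end Groth.SuppCx
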