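import Groth.Agent.SuppCx.Basic
import Groth.Agent.BiextChow.HomologyElem
import Groth.Agent.DualCore.Regular
import Groth.Agent.LocCohTransform.RgammaCompute
import Mathlib.CategoryTheory.Abelian.Injective.Extend

/-!
`HT` and `HDT` computed by complexes of injectives.
-/

set_option autoImplicit false
set_option linter.unusedSectionVars false
set_option linter.style.haveILetI false

universe u

open CategoryTheory CategoryTheory.Limits Opposite HomologicalComplex Groth.LocCohTransform.SupportExt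

attribute [local instance] HasDerivedCategory.standard

namespace Groth.SuppCx

variable {A : Type u} [CommRing A] (L : CochainComplex (ModuleCat.{u} A) ℤ) {T : Set (PrimeSpectrum A)}

/-- `A/J` as a complex. -/
noncomputable abbrev qc (J : Ideal A) : CochainComplex (ModuleCat.{u} A) ℤ :=
  (HomologicalComplex.single (ModuleCat.{u} A) (ComplexShape.up ℤ) 0).obj (ModuleCat.of A (A ⧸ J))

/-- The element `1`. -/
noncomputable def qone (J : Ideal A) : (qc J).X 0 :=
  (singleObjXSelf (ComplexShape.up ℤ) 0 (ModuleCat.of A (A ⧸ J))).inv.hom (Submodule.Quotient.mk 1)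

theorem hom_qone (J : Ideal A) :
    (singleObjXSelf (ComplexShape.up ℤ) 0 (ModuleCat.of A (A ⧸ J))).hom.hom (qone J) = Submodule.Quotient.mk 1 :=
  congr(($((singleObjXSelf (ComplexShape.up ℤ) 0 (ModuleCat.of A (A ⧸ J))).inv_hom_id)).hom
    (Submodule.Quotient.mk 1))

theorem smul_qone {J : Ideal A} {a : A} (ha : a ∈ J) : a • qone J = 0 := by
  rw [qone, ← map_smul, ← Submodule.Quotient.mk_smul, smul_eq_mul, mul_one,
    (Submodule.Quotient.mk_eq_zero _).2 ha, map_zero]

variable {L}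

theorem qval_mem (J : Dual2.IdealsIn T) (g : qc J.obj ⟶ L) :
    (g.f 0).hom (qone J.obj) ∈ Zc L (gamC T L) 0 1 := by
  refine ⟨mem_gam_of_killed J.property fun a ha => by rw [← map_smul, smul_qone ha, map_zero], ?_⟩
  have h := congr(($(g.comm 0 1)).hom (qone J.obj))
  simp only [single_obj_d, Limits.zero_comp, ModuleCat.hom_comp, LinearMap.comp_apply, ModuleCat.hom_zero,
    LinearMap.zero_apply] at h
  exact h

/-- The class of a map `A/J → L`. -/
noncomputable def qcl (J : Dual2.IdealsIn T) (g : qc J.obj ⟶ L) : Hc L (gamC T L) (-1) 0 1 :=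
  Submodule.Quotient.mk ⟨(g.f 0).hom (qone J.obj), qval_mem J g⟩

theorem qcl_eq_iff {J J' : Dual2.IdealsIn T} (g : qc J.obj ⟶ L) (g' : qc J'.obj ⟶ L) :
    qcl J g = qcl J' g' ↔ ∃ y ∈ Gam T (L.X (-1)),
      (L.d (-1) 0).hom y = (g.f 0).hom (qone J.obj) - (g'.f 0).hom (qone J'.obj) :=
  (Submodule.Quotient.eq _).trans mem_Bc

theorem qcl_eq_of_homotopy {J : Dual2.IdealsIn T} {g g' : qc J.obj ⟶ L} (h : Homotopy g g') :
    qcl J g = qcl J g' := by
  refine (qcl_eq_iff g g').2 ⟨(h.hom 0 (-1)).hom (qone J.obj), ?_, ?_⟩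
  · exact mem_gam_of_killed J.property fun a ha => by rw [← map_smul, smul_qone ha, map_zero]
  · have hc := h.comm 0
    rw [dNext_eq h.hom (show (ComplexShape.up ℤ).Rel 0 1 by simp),
      prevD_eq h.hom (show (ComplexShape.up ℤ).Rel (-1) 0 by simp), single_obj_d, Limits.zero_comp, zero_add] at hc
    have h' := congr(($hc).hom (qone J.obj))
    simp only [ModuleCat.hom_add, LinearMap.add_apply, ModuleCat.hom_comp, LinearMap.comp_apply] at h'
    rw [h', add_sub_cancel_right]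

theorem exists_qhom (J : Ideal A) (x : L.X 0) (hx : (L.d 0 1).hom x = 0) (hJ : ∀ a ∈ J, a • x = 0) :
    ∃ g : qc J ⟶ L, (g.f 0).hom (qone J) = x := by
  let φ : ModuleCat.of A (A ⧸ J) ⟶ L.X 0 :=
    ModuleCat.ofHom (J.liftQ (LinearMap.toSpanSingleton A (L.X 0) x) fun a ha => hJ a ha)
  refine ⟨mkHomFromSingle φ fun k hk => ?_, ?_⟩
  · obtain rfl : k = 1 := by simpa using hk.symm
    ext : 1
    refine Submodule.linearMap_qext _ (LinearMap.ext_ring ?_)
    show (L.d 0 1).hom ((1 : A) • x) = 0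
    rw [one_smul, hx]
  · rw [mkHomFromSingle_f]
    show φ.hom ((singleObjXSelf (ComplexShape.up ℤ) 0 (ModuleCat.of A (A ⧸ J))).hom.hom (qone J)) = x
    rw [hom_qone]
    show (1 : A) • x = x
    rw [one_smul]

theorem qcl_surjective (t : Hc L (gamC T L) (-1) 0 1) : ∃ (J : Dual2.IdealsIn T) (g : qc J.obj ⟶ L), qcl J g = t := by
  obtain ⟨⟨x, hx, hdx⟩, rfl⟩ := Submodule.Quotient.mk_surjective _ t
  let J : Dual2.IdealsIn T := ⟨LinearMap.ker (LinearMap.toSpanSingleton A (L.X 0) x), zeroLocus_ann_subset hx⟩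
  obtain ⟨g, hg⟩ := exists_qhom J.obj x hdx fun a ha => ha
  exact ⟨J, g, congrArg Submodule.Quotient.mk (Subtype.ext hg)⟩

/-- The transition maps. -/
noncomputable def qtr {J J' : Ideal A} (h : J' ≤ J) : qc J' ⟶ qc J :=
  (HomologicalComplex.single (ModuleCat.{u} A) (ComplexShape.up ℤ) 0).map
    (ModuleCat.ofHom (Submodule.mapQ J' J LinearMap.id h))

theorem qtr_one {J J' : Ideal A} (h : J' ≤ J) : ((qtr h).f 0).hom (qone J') = qone J := by
  rw [qtr, single_map_f_self]
  show (singleObjXSelf (ComplexShape.up ℤ) 0 (ModuleCat.of A (A ⧸ J))).inv.hom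
    ((ModuleCat.ofHom (Submodule.mapQ J' J LinearMap.id h)).hom
      ((singleObjXSelf (ComplexShape.up ℤ) 0 (ModuleCat.of A (A ⧸ J'))).hom.hom (qone J'))) = _
  rw [hom_qone]
  rfl

theorem exists_qnull {J : Dual2.IdealsIn T} (g : qc J.obj ⟶ L) (hg : qcl J g = 0) :
    ∃ (J' : Dual2.IdealsIn T) (h : J'.obj ≤ J.obj), Nonempty (Homotopy (qtr h ≫ g) 0) := by
  obtain ⟨y, hy, hyx⟩ : ∃ y ∈ Gam T (L.X (-1)), (L.d (-1) 0).hom y = (g.f 0).hom (qone J.obj) :=
    mem_Bc.1 ((Submodule.Quotient.mk_eq_zero ((Bc L (gamC T L) (-1) 0).comap (Zc L (gamC T L) 0 1).subtype)).1 hg)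
  let K : Ideal A := LinearMap.ker (LinearMap.toSpanSingleton A (L.X (-1)) y)
  let J' : Dual2.IdealsIn T := ⟨J.obj ⊓ K, fun p hp => by
    rcases (Ideal.IsPrime.inf_le p.2).1 hp with h | h
    · exact J.property h
    · exact zeroLocus_ann_subset hy h⟩
  refine ⟨J', inf_le_left, ?_⟩
  let φ : ModuleCat.of A (A ⧸ J'.obj) ⟶ L.X (-1) :=
    ModuleCat.ofHom (J'.obj.liftQ (LinearMap.toSpanSingleton A (L.X (-1)) y) fun a ha => ha.2)
  let hh : ∀ i j : ℤ, (ComplexShape.up ℤ).Rel j i → ((qc J'.obj).X i ⟶ L.X j) := fun i j hij =>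
    if hi : i = 0 then (singleObjXIsoOfEq (ComplexShape.up ℤ) 0 _ i hi).hom ≫ φ ≫
      (L.XIsoOfEq (show j = -1 by have : j + 1 = i := hij; omega)).inv else 0
  refine ⟨(Homotopy.ofEq ?_).trans (Homotopy.nullHomotopy' hh)⟩
  refine from_single_hom_ext ?_
  rw [Homotopy.nullHomotopicMap'_f (show (ComplexShape.up ℤ).Rel (-1) 0 by simp)
    (show (ComplexShape.up ℤ).Rel 0 1 by simp), single_obj_d, Limits.zero_comp, zero_add]
  simp only [hh, dif_pos rfl, XIsoOfEq_rfl, Iso.refl_inv, Category.comp_id]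
  rw [← cancel_epi (singleObjXSelf (ComplexShape.up ℤ) 0 (ModuleCat.of A (A ⧸ J'.obj))).inv]
  ext : 1
  refine Submodule.linearMap_qext _ (LinearMap.ext_ring ?_)
  show ((qtr (inf_le_left : J'.obj ≤ J.obj) ≫ g).f 0).hom (qone J'.obj) = _
  rw [comp_f, ModuleCat.hom_comp, LinearMap.comp_apply, qtr_one, ← hyx]
  show _ = (L.d (-1) 0).hom (φ.hom ((singleObjXSelf (ComplexShape.up ℤ) 0
    (ModuleCat.of A (A ⧸ J'.obj))).hom.hom (qone J'.obj)))
  rw [hom_qone]
  congr 1
  exact (one_smul A y).symm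

section Derived

variable [L.IsKInjective]

theorem exists_qlift {J : Ideal A} (u : Dual.inD A (A ⧸ J) ⟶ DerivedCategory.Q.obj L) :
    ∃ g : qc J ⟶ L, DerivedCategory.Q.map g = u := by
  obtain ⟨g, hg⟩ := (CochainComplex.IsKInjective.Qh_map_bijective
    ((HomotopyCategory.quotient (ModuleCat.{u} A) (ComplexShape.up ℤ)).obj (qc J)) L).2
    ((DerivedCategory.quotientCompQhIso (ModuleCat.{u} A)).hom.app (qc J) ≫ u ≫
      (DerivedCategory.quotientCompQhIso (ModuleCat.{u} A)).inv.app L)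
  obtain ⟨g, rfl⟩ := (HomotopyCategory.quotient (ModuleCat.{u} A) (ComplexShape.up ℤ)).map_surjective g
  refine ⟨g, ?_⟩
  have h := congrArg (fun t => (DerivedCategory.quotientCompQhIso (ModuleCat.{u} A)).inv.app (qc J) ≫ t ≫
    (DerivedCategory.quotientCompQhIso (ModuleCat.{u} A)).hom.app L) hg
  simp only [Category.assoc, Iso.inv_hom_id_app_assoc, Iso.inv_hom_id_app, Category.comp_id] at h
  rw [DerivedCategory.quotientCompQhIso_hom_naturality, Iso.inv_hom_id_app_assoc] at h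
  exact h

theorem qhomotopy_of_eq {J : Ideal A} {g g' : qc J ⟶ L}
    (h : DerivedCategory.Q.map g = DerivedCategory.Q.map g') : Nonempty (Homotopy g g') := by
  refine ⟨HomotopyCategory.homotopyOfEq _ _ ((CochainComplex.IsKInjective.Qh_map_bijective
    ((HomotopyCategory.quotient (ModuleCat.{u} A) (ComplexShape.up ℤ)).obj (qc J)) L).1 ?_)⟩
  rw [← cancel_mono ((DerivedCategory.quotientCompQhIso (ModuleCat.{u} A)).hom.app L)]
  exact ((DerivedCategory.quotientCompQhIso (ModuleCat.{u} A)).hom.naturality g).trans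
    ((congrArg ((DerivedCategory.quotientCompQhIso (ModuleCat.{u} A)).hom.app (qc J) ≫ ·) h).trans
      ((DerivedCategory.quotientCompQhIso (ModuleCat.{u} A)).hom.naturality g').symm)

/-- The system of comparison maps. -/
theorem exists_pairing {Y : Dual.D A} (e : Y ≅ DerivedCategory.Q.obj L) :
    ∃ P : ∀ J : Dual2.IdealsIn T, (Dual.inD A (A ⧸ J.obj) ⟶ Y) →ₗ[A] Hc L (gamC T L) (-1) 0 1,
      (∀ (J J' : Dual2.IdealsIn T) (h : J'.obj ≤ J.obj) (u : Dual.inD A (A ⧸ J.obj) ⟶ Y),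
        P J' (Groth.DualCore.inDmap (Submodule.mapQ J'.obj J.obj LinearMap.id h) ≫ u) = P J u) ∧
      (∀ (J : Dual2.IdealsIn T) (u : Dual.inD A (A ⧸ J.obj) ⟶ Y), P J u = 0 →
        ∃ (J' : Dual2.IdealsIn T) (h : J'.obj ≤ J.obj),
          Groth.DualCore.inDmap (Submodule.mapQ J'.obj J.obj LinearMap.id h) ≫ u = 0) ∧
      ∀ t, ∃ (J : Dual2.IdealsIn T) (u : Dual.inD A (A ⧸ J.obj) ⟶ Y), P J u = t := by
  have hP : ∀ {J : Dual2.IdealsIn T} {u : Dual.inD A (A ⧸ J.obj) ⟶ Y} {g : qc J.obj ⟶ L},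
      DerivedCategory.Q.map g = u ≫ e.hom → qcl J (exists_qlift (u ≫ e.hom)).choose = qcl J g :=
    fun {J u g} hg => qcl_eq_of_homotopy
      (qhomotopy_of_eq ((exists_qlift (u ≫ e.hom)).choose_spec.trans hg.symm)).some
  let P : ∀ J : Dual2.IdealsIn T, (Dual.inD A (A ⧸ J.obj) ⟶ Y) →ₗ[A] Hc L (gamC T L) (-1) 0 1 := fun J =>
    { toFun := fun u => qcl J (exists_qlift (u ≫ e.hom)).choose
      map_add' := fun u v => by
        rw [hP (g := (exists_qlift (u ≫ e.hom)).choose + (exists_qlift (v ≫ e.hom)).choose) (by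
          rw [Functor.map_add, (exists_qlift (u ≫ e.hom)).choose_spec, (exists_qlift (v ≫ e.hom)).choose_spec,
            Preadditive.add_comp]; rfl), qcl, qcl, qcl, ← Submodule.Quotient.mk_add]
        rfl
      map_smul' := fun r u => by
        rw [hP (g := r • (exists_qlift (u ≫ e.hom)).choose) (by
          rw [Functor.map_smul, (exists_qlift (u ≫ e.hom)).choose_spec, Linear.smul_comp]; rfl),
          RingHom.id_apply, qcl, qcl, ← Submodule.Quotient.mk_smul]
        rfl }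
  have hmap : ∀ {J J' : Dual2.IdealsIn T} (h : J'.obj ≤ J.obj) {u : Dual.inD A (A ⧸ J.obj) ⟶ Y}
      {g : qc J.obj ⟶ L}, DerivedCategory.Q.map g = u ≫ e.hom →
      DerivedCategory.Q.map (qtr h ≫ g) =
        (Groth.DualCore.inDmap (Submodule.mapQ J'.obj J.obj LinearMap.id h) ≫ u) ≫ e.hom := by
    intro J J' h u g hg
    rw [Functor.map_comp, hg]
    exact (Category.assoc _ _ _).symm
  refine ⟨P, fun J J' h u => ?_, fun J u hu => ?_, fun t => ?_⟩
  · obtain ⟨g, hg⟩ := exists_qlift (u ≫ e.hom)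
    show qcl J' _ = qcl J _
    rw [hP hg, hP (hmap h hg)]
    exact congrArg Submodule.Quotient.mk (Subtype.ext (by
      show ((qtr h ≫ g).f 0).hom (qone J'.obj) = _
      rw [comp_f, ModuleCat.hom_comp, LinearMap.comp_apply, qtr_one]))
  · obtain ⟨g, hg⟩ := exists_qlift (u ≫ e.hom)
    obtain ⟨J', h, ⟨H⟩⟩ := exists_qnull g ((hP hg).symm.trans hu)
    refine ⟨J', h, (cancel_mono e.hom).1 ?_⟩
    rw [Limits.zero_comp, ← hmap h hg]
    have h5 := congrArg DerivedCategory.Qh.map (HomotopyCategory.eq_of_homotopy (qtr h ≫ g) 0 H)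
    rw [Functor.map_zero, Functor.map_zero] at h5
    refine (cancel_epi ((DerivedCategory.quotientCompQhIso (ModuleCat.{u} A)).hom.app (qc J'.obj))).1 ?_
    refine ((DerivedCategory.quotientCompQhIso (ModuleCat.{u} A)).hom.naturality _).symm.trans ?_
    exact (congrArg (· ≫ _) h5).trans (Limits.zero_comp.trans Limits.comp_zero.symm)
  · obtain ⟨J, g, rfl⟩ := qcl_surjective t
    exact ⟨J, DerivedCategory.Q.map g ≫ e.inv, hP (by rw [Category.assoc, e.inv_hom_id, Category.comp_id]; rfl)⟩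

/-- `HDT` by a K-injective representative of the shifted object. -/
theorem nonempty_HDT_equiv_zero (K : Dual.D A) (i : ℤ) (e : K⟦i⟧ ≅ DerivedCategory.Q.obj L) :
    Nonempty (Dual2.HDT A T K i ≃ₗ[A] Hc L (gamC T L) (-1) 0 1) := by
  obtain ⟨P, hP, hinj, hsurj⟩ := exists_pairing (T := T) e
  let F := (localCohomology.ringModIdeals (Dual2.idealsInDiagram T) ⋙
      DerivedCategory.singleFunctor (ModuleCat.{u} A) 0).op ⋙ (linearYoneda A (Dual.D A)).obj (K⟦i⟧)
  let V := ULift.{u + 1} (Hc L (gamC T L) (-1) 0 1)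
  have hmap : ∀ {j j' : (Dual2.IdealsIn T)ᵒᵖ} (w : j ⟶ j') (v : F.obj j),
      F.map w v = Groth.DualCore.inDmap
        (Submodule.mapQ j'.unop.obj j.unop.obj LinearMap.id (leOfHom w.unop.hom)) ≫ v := fun _ _ => rfl
  let s : Cocone F :=
    { pt := ModuleCat.of A V
      ι :=
        { app := fun j => ModuleCat.ofHom (ULift.moduleEquiv.symm.toLinearMap ∘ₗ P j.unop)
          naturality := fun j j' w => by
            ext1
            apply LinearMap.ext
            intro v
            show ULift.up (P j'.unop (F.map w v)) = ULift.up (P j.unop v)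
            rw [hmap]
            exact congrArg ULift.up (hP _ _ _ v) } }
  have hd : ∀ j (v : F.obj j), colimit.desc F s (colimit.ι F j v) = ULift.up (P j.unop v) := fun j v =>
    ConcreteCategory.congr_hom (colimit.ι_desc s j) v
  refine ⟨(LinearEquiv.ofBijective (colimit.desc F s).hom ⟨?_, fun t => ?_⟩).trans ULift.moduleEquiv⟩
  · rw [← LinearMap.ker_eq_bot, LinearMap.ker_eq_bot']
    intro x hx
    haveI : PreservesFilteredColimitsOfSize.{u, u} (forget AddCommGrpCat.{u + 1}) :=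
      preservesFilteredColimitsOfSize_shrink.{u, u + 1, u, u + 1} _
    haveI : PreservesColimit F (forget (ModuleCat.{u + 1} A)) :=
      inferInstanceAs (PreservesColimit F (forget₂ (ModuleCat.{u + 1} A) AddCommGrpCat ⋙ forget AddCommGrpCat))
    obtain ⟨j, v, rfl⟩ := Concrete.colimit_exists_rep F x
    obtain ⟨J', h, h0⟩ := hinj j.unop v (congrArg ULift.down ((hd j v).symm.trans hx))
    let w : j ⟶ op J' := (ObjectProperty.homMk (homOfLE h) : J' ⟶ j.unop).op
    rw [← ConcreteCategory.congr_hom (colimit.w F w) v]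
    show colimit.ι F _ (F.map w v) = 0
    rw [hmap w v]
    exact (congrArg _ h0).trans (map_zero _)
  · obtain ⟨J, v, hv⟩ := hsurj t.down
    exact ⟨colimit.ι F (op J) v, (hd (op J) v).trans (congrArg ULift.up hv)⟩

/-- `HT` by a K-injective representative of the shifted module. -/
theorem nonempty_HT_equiv_zero [IsNoetherianRing A] (M : Type u) [AddCommGroup M] [Module A M] (i : ℕ)
    (e : (Dual.inD A M)⟦(i : ℤ)⟧ ≅ DerivedCategory.Q.obj L) :
    Nonempty (Dual2.HT T i M ≃ₗ[A] Hc L (gamC T L) (-1) 0 1) := by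
  obtain ⟨P, hP, hinj, hsurj⟩ := exists_pairing (T := T) e
  let V := Hc L (gamC T L) (-1) 0 1
  let φ : ∀ J : Dual2.IdealsIn T, Abelian.Ext (ModuleCat.of A (A ⧸ J.obj)) (ModuleCat.of A M) i →ₗ[A] V :=
    fun J => P J ∘ₗ (Groth.DualCore.extDEquiv (A ⧸ J.obj) M i).toLinearMap
  have htr : ∀ {J J' : Dual2.IdealsIn T} (w : J' ⟶ J)
      (α : Abelian.Ext (ModuleCat.of A (A ⧸ J.obj)) (ModuleCat.of A M) i),
      Groth.DualCore.extDEquiv (A ⧸ J'.obj) M i ((Abelian.Ext.mk₀ (itr w)).comp α (zero_add i)) =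
        Groth.DualCore.inDmap (Submodule.mapQ J'.obj J.obj LinearMap.id (leOfHom w.hom)) ≫
          Groth.DualCore.extDEquiv (A ⧸ J.obj) M i α := fun {J J'} w α =>
    @Groth.DualCore.extDEquiv_precomp A _ (A ⧸ J.obj) (A ⧸ J'.obj) M _ _ _ _ _ _ i
      (Submodule.mapQ J'.obj J.obj LinearMap.id (leOfHom w.hom)) α
  have hφ : ∀ {J J' : Dual2.IdealsIn T} (w : J' ⟶ J)
      (α : Abelian.Ext (ModuleCat.of A (A ⧸ J.obj)) (ModuleCat.of A M) i),
      φ J' ((Abelian.Ext.mk₀ (itr w)).comp α (zero_add i)) = φ J α := fun {J J'} w α =>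
    (congrArg (P J') (htr w α)).trans (hP _ _ _ _)
  let c := sysCocone T i (ModuleCat.of A M)
  let s : Cocone (sys T i (ModuleCat.of A M)) :=
    { pt := ModuleCat.of A V
      ι :=
        { app := fun j => ModuleCat.ofHom (φ j.unop ∘ₗ (lvl T i (ModuleCat.of A M) j.unop).symm.toLinearMap)
          naturality := fun j j' w => by
            ext1
            apply LinearMap.ext
            intro v
            obtain ⟨α, rfl⟩ := (lvl T i (ModuleCat.of A M) j.unop).surjective v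
            show φ j'.unop ((lvl T i _ j'.unop).symm ((sys T i _).map w (lvl T i _ j.unop α))) =
              φ j.unop ((lvl T i _ j.unop).symm (lvl T i _ j.unop α))
            rw [show w = w.unop.op from rfl, lvl_trans i _ w.unop, LinearEquiv.symm_apply_apply,
              LinearEquiv.symm_apply_apply]
            exact hφ w.unop α } }
  let Φ := (sysIsColimit T i (ModuleCat.of A M)).desc s
  have hΦ : ∀ (J : Dual2.IdealsIn T) α, Φ.hom (hι T i (ModuleCat.of A M) J α) = φ J α := fun J α => by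
    refine (ConcreteCategory.congr_hom ((sysIsColimit T i (ModuleCat.of A M)).fac s (op J))
      (lvl T i _ J α)).trans ?_
    show φ J ((lvl T i _ J).symm (lvl T i _ J α)) = _
    rw [LinearEquiv.symm_apply_apply]
  refine ⟨LinearEquiv.ofBijective Φ.hom ⟨?_, fun t => ?_⟩⟩
  · rw [← LinearMap.ker_eq_bot, LinearMap.ker_eq_bot']
    intro x hx
    obtain ⟨J, α, rfl⟩ := exists_hι i (ModuleCat.of A M) x
    rw [hΦ] at hx
    obtain ⟨J', h, h0⟩ := hinj J _ hx
    refine (hι_eq_zero_iff i _ α).2 ⟨J', ObjectProperty.homMk (homOfLE h), ?_⟩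
    refine (Groth.DualCore.extDEquiv (A ⧸ J'.obj) M i).injective ?_
    rw [map_zero]
    exact (htr _ α).trans h0
  · obtain ⟨J, v, hv⟩ := hsurj t
    obtain ⟨α, rfl⟩ := (Groth.DualCore.extDEquiv (A ⧸ J.obj) M i).surjective v
    exact ⟨hι T i (ModuleCat.of A M) J α, (hΦ J α).trans hv⟩

end Derived

end Groth.SuppCx
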