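import Groth.Agent.LocCohTransform.ExtCechCompare
import Groth.Agent.FlatCxBase.BoundedFlat
import Mathlib.RingTheory.Localization.BaseChange
import Mathlib.RingTheory.Flat.Stability
import Mathlib.Algebra.Category.ModuleCat.ChangeOfRings
import Mathlib.Algebra.Homology.HomotopyCategory.MappingCone
import Mathlib.Algebra.Homology.HomotopyCategory.Shift
import Mathlib.Algebra.Category.ModuleCat.Biproducts

/-!
Extension of scalars of extended Čech complexes.
-/

set_option autoImplicit false
set_option linter.unusedSectionVars false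
set_option linter.style.haveILetI false

universe u

open CategoryTheory CategoryTheory.Limits TensorProduct Groth.LocCohTransform

namespace Groth.SuppCx.CechExt

variable {A B : Type u} [CommRing A] [CommRing B] (φ : A →+* B)

/-- Termwise extension of scalars. -/
noncomputable abbrev extF : DRing.Cx A ⥤ DRing.Cx B :=
  (ModuleCat.extendScalars.{u, u, u} φ).mapHomologicalComplex (ComplexShape.up ℤ)

theorem isLocalizedModule_map (f : A) (N : ModuleCat.{u} A) :
    IsLocalizedModule (Submonoid.powers (φ f))
      ((ModuleCat.extendScalars.{u, u, u} φ).map ((DerCA.locUnit (Submonoid.powers f)).app N)).hom := by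
  algebraize [φ]
  let g : N →ₗ[A] LocalizedModule (Submonoid.powers f) N := LocalizedModule.mkLinearMap _ N
  let h : B ⊗[A] N →ₗ[B] B ⊗[A] LocalizedModule (Submonoid.powers f) N := g.baseChange B
  haveI h0 : IsLocalizedModule (Submonoid.powers f) (AlgebraTensorModule.rTensor A B g) := inferInstance
  haveI : IsLocalizedModule (Submonoid.powers f) (h.restrictScalars A) := by
    have e : h.restrictScalars A = (TensorProduct.comm A _ B).toLinearMap ∘ₗ
        (AlgebraTensorModule.rTensor A B g ∘ₗ (TensorProduct.comm A B N).toLinearMap) := by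
      refine TensorProduct.ext' fun b n => ?_
      simp [h]
    rw [e]
    infer_instance
  have h1 := IsLocalizedModule.of_restrictScalars (Submonoid.powers f) h
  rw [Algebra.algebraMapSubmonoid_powers] at h1
  exact h1

/-- Localization commutes with extension of scalars. -/
noncomputable def locIsoApp (f : A) (N : ModuleCat.{u} A) :
    (DerCA.locFunctor (Submonoid.powers (φ f))).obj ((ModuleCat.extendScalars.{u, u, u} φ).obj N) ≅
      (ModuleCat.extendScalars.{u, u, u} φ).obj ((DerCA.locFunctor (Submonoid.powers f)).obj N) :=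
  haveI := isLocalizedModule_map φ f N
  (IsLocalizedModule.iso (Submonoid.powers (φ f))
    ((ModuleCat.extendScalars.{u, u, u} φ).map ((DerCA.locUnit (Submonoid.powers f)).app N)).hom).toModuleIso

theorem unit_locIsoApp (f : A) (N : ModuleCat.{u} A) :
    (DerCA.locUnit (Submonoid.powers (φ f))).app ((ModuleCat.extendScalars.{u, u, u} φ).obj N) ≫
        (locIsoApp φ f N).hom =
      (ModuleCat.extendScalars.{u, u, u} φ).map ((DerCA.locUnit (Submonoid.powers f)).app N) := by
  haveI := isLocalizedModule_map φ f N
  exact ModuleCat.hom_ext (LinearMap.ext fun x => IsLocalizedModule.iso_mk_one _ _ x)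

/-- Localization commutes with extension of scalars, naturally. -/
noncomputable def locIso (f : A) :
    ModuleCat.extendScalars.{u, u, u} φ ⋙ DerCA.locFunctor (Submonoid.powers (φ f)) ≅
      DerCA.locFunctor (Submonoid.powers f) ⋙ ModuleCat.extendScalars.{u, u, u} φ :=
  NatIso.ofComponents (locIsoApp φ f) fun {N N'} g => by
    haveI := isLocalizedModule_map φ f N'
    have key : (DerCA.locUnit (Submonoid.powers (φ f))).app ((ModuleCat.extendScalars.{u, u, u} φ).obj N) ≫
          ((ModuleCat.extendScalars.{u, u, u} φ ⋙ DerCA.locFunctor (Submonoid.powers (φ f))).map g ≫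
            (locIsoApp φ f N').hom) =
        (DerCA.locUnit (Submonoid.powers (φ f))).app ((ModuleCat.extendScalars.{u, u, u} φ).obj N) ≫
          ((locIsoApp φ f N).hom ≫
            (DerCA.locFunctor (Submonoid.powers f) ⋙ ModuleCat.extendScalars.{u, u, u} φ).map g) := by
      rw [← Category.assoc, ← Category.assoc, unit_locIsoApp, Functor.comp_map, Functor.comp_map,
        ← (DerCA.locUnit (Submonoid.powers (φ f))).naturality, Category.assoc, unit_locIsoApp]
      simp only [Functor.id_map, ← Functor.map_comp]
      rw [← (DerCA.locUnit (Submonoid.powers f)).naturality, Functor.id_map]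
    refine ModuleCat.hom_ext (IsLocalizedModule.ext (Submonoid.powers (φ f))
      (LocalizedModule.mkLinearMap (Submonoid.powers (φ f)) ((ModuleCat.extendScalars.{u, u, u} φ).obj N))
      (IsLocalizedModule.map_units (S := Submonoid.powers (φ f))
        ((ModuleCat.extendScalars.{u, u, u} φ).map ((DerCA.locUnit (Submonoid.powers f)).app N')).hom) ?_)
    exact congrArg ModuleCat.Hom.hom key

theorem unit_locIso_complex (f : A) (K : DRing.Cx A) :
    DerCA.locCxUnit (Submonoid.powers (φ f)) ((extF φ).obj K) ≫
        (NatTrans.mapHomologicalComplex (locIso φ f).hom (ComplexShape.up ℤ)).app K =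
      (extF φ).map (DerCA.locCxUnit (Submonoid.powers f) K) := by
  ext n : 1
  exact unit_locIsoApp φ f (K.X n)

/-- The comparison of the localizations of the source and the target. -/
noncomputable def rightIso (f : A) {K : DRing.Cx A} {K' : DRing.Cx B} (a : (extF φ).obj K ≅ K') :
    (extF φ).obj ((DerCA.locCx (Submonoid.powers f)).obj K) ≅ (DerCA.locCx (Submonoid.powers (φ f))).obj K' :=
  ((NatIso.mapHomologicalComplex (locIso φ f) (ComplexShape.up ℤ)).app K).symm ≪≫
    (DerCA.locCx (Submonoid.powers (φ f))).mapIso a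

theorem unit_rightIso (f : A) {K : DRing.Cx A} {K' : DRing.Cx B} (a : (extF φ).obj K ≅ K') :
    a.hom ≫ DerCA.locCxUnit (Submonoid.powers (φ f)) K' =
      (extF φ).map (DerCA.locCxUnit (Submonoid.powers f) K) ≫ (rightIso φ f a).hom := by
  have hu : ∀ (n : ℤ),
      (ModuleCat.extendScalars.{u, u, u} φ).map ((DerCA.locUnit (Submonoid.powers f)).app (K.X n)) ≫
        (locIsoApp φ f (K.X n)).inv =
      (DerCA.locUnit (Submonoid.powers (φ f))).app ((ModuleCat.extendScalars.{u, u, u} φ).obj (K.X n)) := fun n =>
    (Iso.comp_inv_eq _).2 (unit_locIsoApp φ f (K.X n)).symm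
  ext n : 1
  refine ((DerCA.locUnit (Submonoid.powers (φ f))).naturality (a.hom.f n)).trans ?_
  refine Eq.trans ?_ (Category.assoc _ _ _)
  exact (congrArg (· ≫ (DerCA.locFunctor (Submonoid.powers (φ f))).map (a.hom.f n)) (hu n)).symm

/-- The arrow isomorphism of one step. -/
noncomputable def arrowIso (f : A) {K : DRing.Cx A} {K' : DRing.Cx B} (a : (extF φ).obj K ≅ K') :
    Arrow.mk ((extF φ).map (DerCA.locCxUnit (Submonoid.powers f) K)) ≅
      Arrow.mk (DerCA.locCxUnit (Submonoid.powers (φ f)) K') :=
  Arrow.isoMk a (rightIso φ f a) (unit_rightIso φ f a)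

theorem nonempty_stepIso (f : A) {K : DRing.Cx A} {K' : DRing.Cx B} (a : (extF φ).obj K ≅ K') :
    Nonempty ((extF φ).obj (cone K f) ≅ cone K' (φ f)) :=
  ⟨((extF φ).commShiftIso (-1 : ℤ)).app _ ≪≫
    (shiftFunctor (DRing.Cx B) (-1 : ℤ)).mapIso
      (CochainComplex.mappingCone.mapHomologicalComplexIso _ (ModuleCat.extendScalars.{u, u, u} φ) ≪≫
        HomologicalComplex.homotopyCofiber.mapArrowIso _ _ (fun j => ⟨j - 1, sub_add_cancel j 1⟩) (arrowIso φ f a))⟩

/-- Extension of scalars of an extended Čech complex. -/
theorem nonempty_extCech_iso (M : ModuleCat.{u} A) : ∀ fs : List A,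
    Nonempty ((extF φ).obj (DerCA.extCech M fs) ≅
      DerCA.extCech ((ModuleCat.extendScalars.{u, u, u} φ).obj M) (fs.map φ))
  | [] => ⟨(HomologicalComplex.singleMapHomologicalComplex (ModuleCat.extendScalars.{u, u, u} φ)
      (ComplexShape.up ℤ) 0).app M⟩
  | f :: fs => by
    obtain ⟨a⟩ := nonempty_extCech_iso M fs
    exact nonempty_stepIso φ f a

/-- The terms vanish in high degrees. -/
theorem isZero_X_of_lt (M : ModuleCat.{u} A) : ∀ (fs : List A) (p : ℤ), (fs.length : ℤ) < p →
    IsZero ((DerCA.extCech M fs).X p)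
  | [], p, hp => HomologicalComplex.isZero_single_obj_X (ComplexShape.up ℤ) 0 M p (by simp at hp; omega)
  | f :: fs, p, hp => by
    simp only [List.length_cons, Nat.cast_add, Nat.cast_one] at hp
    refine IsZero.of_iso ?_ (DerCA.mappingCoconeXIso (DerCA.locCxUnit (Submonoid.powers f) (DerCA.extCech M fs)) p)
    rw [biprod_isZero_iff]
    exact ⟨isZero_X_of_lt M fs p (by omega),
      Functor.map_isZero (DerCA.locFunctor (Submonoid.powers f)) (isZero_X_of_lt M fs (p - 1) (by omega))⟩

theorem flat_loc (S : Submonoid A) (N : ModuleCat.{u} A) [Module.Flat A N] :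
    Module.Flat A ((DerCA.locFunctor S).obj N) :=
  haveI : Module.Flat A (Localization S) := IsLocalization.flat _ S
  show Module.Flat A (LocalizedModule S N) from
  Module.Flat.of_linearEquiv ((LocalizedModule.equivTensorProduct S N).restrictScalars A)

theorem flat_prod (X Y : Type u) [AddCommGroup X] [Module A X] [Module.Flat A X] [AddCommGroup Y] [Module A Y]
    [Module.Flat A Y] : Module.Flat A (X × Y) := by
  exact Groth.FlatCxBase.flat_of_exact_flat_right (f := LinearMap.inl A X Y) (g := LinearMap.snd A _ _)
    LinearMap.inl_injective LinearMap.snd_surjective Function.Exact.inl_snd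

/-- The terms are flat. -/
theorem flat_X (M : ModuleCat.{u} A) [Module.Flat A M] : ∀ (fs : List A) (p : ℤ),
    Module.Flat A ((DerCA.extCech M fs).X p)
  | [], p => by
    by_cases hp : p = 0
    · subst hp
      exact Module.Flat.of_linearEquiv
        (HomologicalComplex.singleObjXSelf (ComplexShape.up ℤ) 0 M).toLinearEquiv
    · haveI : Subsingleton ((DerCA.extCech M []).X p) :=
        ModuleCat.subsingleton_of_isZero (HomologicalComplex.isZero_single_obj_X (ComplexShape.up ℤ) 0 M p hp)
      exact Module.Flat.of_projective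
  | f :: fs, p => by
    haveI := flat_X M fs p
    haveI := flat_X M fs (p - 1)
    haveI : Module.Flat A (((DerCA.locCx (Submonoid.powers f)).obj (DerCA.extCech M fs)).X (p - 1)) :=
      flat_loc (Submonoid.powers f) ((DerCA.extCech M fs).X (p - 1))
    haveI : Module.Flat A (ModuleCat.of A ((DerCA.extCech M fs).X p ×
        ((DerCA.locCx (Submonoid.powers f)).obj (DerCA.extCech M fs)).X (p - 1))) :=
      (flat_prod _ _ : Module.Flat A ((DerCA.extCech M fs).X p ×
        ((DerCA.locCx (Submonoid.powers f)).obj (DerCA.extCech M fs)).X (p - 1)))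
    exact Module.Flat.of_linearEquiv
      ((DerCA.mappingCoconeXIso (DerCA.locCxUnit (Submonoid.powers f) (DerCA.extCech M fs)) p ≪≫
        ModuleCat.biprodIsoProd _ _).toLinearEquiv)

end Groth.SuppCx.CechExt
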