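import Groth.Agent.SuppCx.Basic
import Mathlib.RingTheory.Ideal.Maps

/-!
Elements annihilating the cohomology with supports in `T` up to a degree are, after raising to a power,
null homotopic there on the supported subcomplex; hence they annihilate the punctual cohomology on `T`.
-/

set_option autoImplicit false
set_option linter.unusedSectionVars false
set_option linter.style.haveILetI false

universe u

open CategoryTheory Groth.LocCohTransform.SupportExt

namespace Groth.SuppCx

variable {A : Type u} [CommRing A] (C : CochainComplex (ModuleCat.{u} A) ℤ) (T : Set (PrimeSpectrum A))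

/-- `g` is null homotopic on the supported subcomplex in degrees `≤ b`, by maps of the complex itself. -/
def NullUpTo (g : A) (b : ℤ) : Prop :=
  ∃ h : ∀ n m : ℤ, C.X n →ₗ[A] C.X m, ∀ ⦃j i k : ℤ⦄, j + 1 = i → i + 1 = k → i ≤ b →
    ∀ x ∈ Gam T (C.X i), g • x = (C.d j i).hom (h i j x) + h k i ((C.d i k).hom x)

/-- These elements form an ideal. -/
def nullIdeal (b : ℤ) : Ideal A where
  carrier := {g | NullUpTo C T g b}
  add_mem' := by
    rintro a c ⟨h, hh⟩ ⟨h', hh'⟩
    refine ⟨fun n m => h n m + h' n m, fun j i k hj hk hi x hx => ?_⟩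
    rw [add_smul, hh hj hk hi x hx, hh' hj hk hi x hx, LinearMap.add_apply, LinearMap.add_apply, map_add]
    abel
  zero_mem' := ⟨fun _ _ => 0, fun j i k _ _ _ x _ => by simp⟩
  smul_mem' := by
    rintro r a ⟨h, hh⟩
    refine ⟨fun n m => r • h n m, fun j i k hj hk hi x hx => ?_⟩
    rw [smul_eq_mul, mul_smul, hh hj hk hi x hx, LinearMap.smul_apply, LinearMap.smul_apply, map_smul,
      smul_add]

variable {C T}

theorem mem_nullIdeal {g : A} {b : ℤ} : g ∈ nullIdeal C T b ↔ NullUpTo C T g b := Iff.rfl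

variable [IsNoetherianRing A] [hC : ∀ n, Module.Injective A (C.X n)]

theorem nullUpTo_succ {g a : A} {b : ℤ} (hg : NullUpTo C T g (b - 1))
    (ha : Kills C (gamC T C) a b) : NullUpTo C T (g * a) b := by
  classical
  obtain ⟨h, hh⟩ := hg
  let ψ : C.X b →ₗ[A] C.X b := g • LinearMap.id - (C.d (b - 1) b).hom ∘ₗ h b (b - 1)
  have hψB : ∀ y ∈ Gam T (C.X (b - 1)), ψ ((C.d (b - 1) b).hom y) = 0 := by
    intro y hy
    have h1 := hh (j := b - 1 - 1) (sub_add_cancel (b - 1) 1) (sub_add_cancel b 1) le_rfl y hy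
    have h2 := congrArg (C.d (b - 1) b).hom h1
    rw [map_smul, map_add, d_d_apply, zero_add] at h2
    show g • (C.d (b - 1) b).hom y - (C.d (b - 1) b).hom (h b (b - 1) ((C.d (b - 1) b).hom y)) = 0
    rw [h2, sub_self]
  let M : Submodule A (C.X b) := Gam T (C.X b)
  let df : M →ₗ[A] C.X (b + 1) := (C.d b (b + 1)).hom ∘ₗ M.subtype
  let af : M →ₗ[A] C.X b := (a • ψ) ∘ₗ M.subtype
  have hker : LinearMap.ker df ≤ LinearMap.ker af := by
    intro x hx
    obtain ⟨y, hy, hyx⟩ := mem_Bc.1 (ha (sub_add_cancel b 1) rfl x.1 x.2 hx)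
    rw [LinearMap.mem_ker]
    show a • ψ x.1 = 0
    rw [← map_smul, ← hyx, hψB y hy]
  haveI := hC b
  obtain ⟨η, hη⟩ := Module.Injective.out ((LinearMap.ker df).liftQ df le_rfl)
    (LinearMap.ker_eq_bot.1 (Submodule.ker_liftQ_eq_bot _ _ _ le_rfl)) ((LinearMap.ker df).liftQ af hker)
  have hη' : ∀ x ∈ Gam T (C.X b), η ((C.d b (b + 1)).hom x) = a • ψ x := fun x hx =>
    hη (Submodule.Quotient.mk ⟨x, hx⟩)
  refine ⟨fun n m => if hnm : n = b + 1 ∧ m = b then
    (C.XIsoOfEq hnm.2.symm).hom.hom ∘ₗ η ∘ₗ (C.XIsoOfEq hnm.1).hom.hom else a • h n m,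
    fun j i k hj hk hi x hx => ?_⟩
  beta_reduce
  rcases hi.lt_or_eq with hi | rfl
  · rw [dif_neg (show ¬ (i = b + 1 ∧ j = b) by omega), dif_neg (show ¬ (k = b + 1 ∧ i = b) by omega),
      LinearMap.smul_apply, LinearMap.smul_apply, map_smul,
      ← smul_add, ← hh hj hk (by omega) x hx, smul_smul, mul_comm]
  · obtain rfl : j = i - 1 := by omega
    obtain rfl : k = i + 1 := by omega
    rw [dif_neg (show ¬ (i = i + 1 ∧ i - 1 = i) by omega), dif_pos ⟨rfl, rfl⟩, LinearMap.smul_apply, map_smul]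
    simp only [HomologicalComplex.XIsoOfEq_rfl, Iso.refl_hom, LinearMap.comp_apply,
      ModuleCat.hom_id, LinearMap.id_coe, id_eq]
    rw [hη' x hx]
    show (g * a) • x = a • _ + a • (g • x - _)
    rw [← smul_add, LinearMap.comp_apply, add_sub_cancel, smul_smul, mul_comm]

variable (C T) in
/-- The iterated statement. -/
theorem pow_le_nullIdeal (J : Ideal A) (a : ℤ) (hlow : ∀ n < a, Subsingleton (C.X n)) :
    ∀ (m : ℕ), (∀ i, i < a + m → ∀ g ∈ J, Kills C (gamC T C) g i) →
      J ^ m ≤ nullIdeal C T (a + m - 1) := by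
  intro m
  induction m with
  | zero =>
    intro _ g _
    refine ⟨fun _ _ => 0, fun j i k _ _ hi x _ => ?_⟩
    haveI := hlow i (by omega)
    exact Subsingleton.elim _ _
  | succ m ih =>
    intro hkill
    rw [pow_succ, Ideal.mul_le]
    intro g hg c hc
    have h1 := ih (fun i hi => hkill i (by omega)) hg
    rw [mem_nullIdeal] at h1 ⊢
    have h2 := nullUpTo_succ (b := a + m) (a := c) h1 (hkill (a + m) (by omega) c hc)
    convert h2 using 2
    push_cast
    ring

/-- A null homotopic element annihilates the punctual cohomology at the points of `T`. -/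
theorem locKills_of_nullUpTo {g : A} {b : ℤ} (hg : NullUpTo C T g b) (hT : StableUnderSpecialization T)
    {q : PrimeSpectrum A} (hq : q ∈ T) {i : ℤ} (hi : i ≤ b) : LocKills C q g i := by
  intro j k hj hk y hy hdy
  obtain ⟨h, hh⟩ := hg
  obtain ⟨t, ht, l, hl⟩ := hy
  obtain ⟨s, hs, hsy⟩ := hdy
  have hty : ∀ a ∈ q.asIdeal ^ l, a • (s * t) • y = 0 := fun a ha => by
    rw [mul_smul, smul_comm a, hl a ha, smul_zero]
  have hmem : (s * t) • y ∈ Gam T (C.X i) := mem_gam_of_killed (J := q.asIdeal ^ l) (fun r hr => hT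
    ((PrimeSpectrum.le_iff_specializes q r).1 (Ideal.IsPrime.le_of_pow_le hr)) hq) hty
  have h1 := hh hj hk hi _ hmem
  have h0 : (C.d i k).hom ((s * t) • y) = 0 := by rw [map_smul, mul_comm, mul_smul, hsy, smul_zero]
  rw [h0, map_zero, add_zero] at h1
  exact ⟨s * t, q.asIdeal.primeCompl.mul_mem hs ht, h i j ((s * t) • y),
    ⟨l, fun a ha => by rw [← map_smul, hty a ha, map_zero]⟩, by rw [← h1, smul_comm]⟩

/-- Annihilation with supports in `T` up to `b` gives, uniformly, punctual annihilation on `T` up to `b`. -/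
theorem exists_locKills_pow (J : Ideal A) (a b : ℤ) (hlow : ∀ n < a, Subsingleton (C.X n))
    (hT : StableUnderSpecialization T) (hkill : ∀ i, i ≤ b → ∀ g ∈ J, Kills C (gamC T C) g i) :
    ∃ m : ℕ, ∀ g ∈ J ^ m, ∀ q ∈ T, ∀ i, i ≤ b → LocKills C q g i := by
  refine ⟨(b + 1 - a).toNat, fun g hg q hq i hi => ?_⟩
  by_cases hab : a ≤ b + 1
  · refine locKills_of_nullUpTo (pow_le_nullIdeal C T J a hlow _ (fun i hi => hkill i ?_) hg) hT hq ?_
    · omega
    · omega
  · intro j k hj hk y _ _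
    haveI := hlow i (by omega)
    exact ⟨1, q.asIdeal.primeCompl.one_mem, 0, ⟨0, fun a _ => smul_zero a⟩, Subsingleton.elim _ _⟩

end Groth.SuppCx
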