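import Groth.Agent.SuppCx.AtPoint
import Groth.Agent.SuppCx.DegreeHeight
import Groth.Agent.SuppCx.Homotopy
import Groth.Agent.SuppCx.FiniteIff

/-!
Annihilation of cohomology with supports through a dualizing complex.
-/

set_option autoImplicit false
set_option linter.unusedSectionVars false
set_option linter.style.haveILetI false

universe u

open CategoryTheory CategoryTheory.Limits DerivedCategory Groth.LocCohTransform.SupportExt Groth.DualCore

attribute [local instance] HasDerivedCategory.standard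

namespace Groth.SuppCx

variable {A : Type u} [CommRing A] [IsNoetherianRing A]

/-- The local saturations of the annihilator at a family of primes containing only support points in `T'`
are supported in `T'`. -/
theorem exists_ideal_saturation (V : Type*) [AddCommGroup V] [Module A V] [Module.Finite A V]
    {T' : Set (PrimeSpectrum A)} (hT' : StableUnderSpecialization T') (P : Set (PrimeSpectrum A))
    (hP : ∀ p : PrimeSpectrum A, p ∉ T' → ∀ q ∈ P, p ≤ q → ∀ x : V, ∃ t ∉ p.asIdeal, t • x = 0) :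
    ∃ J : Ideal A, PrimeSpectrum.zeroLocus (J : Set A) ⊆ T' ∧
      ∀ g ∈ J, ∀ q ∈ P, ∀ x : V, ∃ u ∉ q.asIdeal, (u * g) • x = 0 := by
  classical
  let J : Ideal A :=
    { carrier := {g | ∀ q ∈ P, ∀ x : V, ∃ u ∉ q.asIdeal, (u * g) • x = 0}
      add_mem' := fun {a b} ha hb q hq x => by
        obtain ⟨u, hu, h1⟩ := ha q hq x
        obtain ⟨v, hv, h2⟩ := hb q hq x
        refine ⟨u * v, q.asIdeal.primeCompl.mul_mem hu hv, ?_⟩
        rw [mul_add, add_smul, show u * v * a = v * (u * a) by ring, mul_smul v, h1, smul_zero, zero_add,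
          show u * v * b = u * (v * b) by ring, mul_smul u, h2, smul_zero]
      zero_mem' := fun q _ x => ⟨1, q.asIdeal.primeCompl.one_mem, by rw [mul_zero, zero_smul]⟩
      smul_mem' := fun r {a} ha q hq x => by
        obtain ⟨u, hu, h1⟩ := ha q hq x
        exact ⟨u, hu, by rw [smul_eq_mul, show u * (r * a) = r * (u * a) by ring, mul_smul r, h1, smul_zero]⟩ }
  refine ⟨J, fun p hp => ?_, fun g hg => hg⟩
  by_contra hpT
  obtain ⟨p₀, hp₀, hp₀p⟩ := Ideal.exists_minimalPrimes_le (show J ≤ p.asIdeal from hp)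
  haveI := hp₀.1.1
  have hass : p₀ ∈ associatedPrimes A (A ⧸ J) := by
    have h := Module.associatedPrimes.minimalPrimes_annihilator_subset_associatedPrimes A (A ⧸ J)
    rw [Ideal.annihilator_quotient] at h
    exact h hp₀
  obtain ⟨-, z, hz⟩ := Submodule.isAssociatedPrime_iff.1 hass
  obtain ⟨g, rfl⟩ := Ideal.Quotient.mk_surjective z
  have hcolon : ∀ u, u ∈ p₀ ↔ u * g ∈ J := fun u => by
    rw [hz, Submodule.mem_colon_singleton, Submodule.mem_bot]
    exact Ideal.Quotient.eq_zero_iff_mem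
  have hg : g ∉ J := fun h =>
    hp₀.1.1.ne_top ((Ideal.eq_top_iff_one _).2 ((hcolon 1).2 (by rwa [one_mul])))
  obtain ⟨q, hq, x, hx⟩ : ∃ q ∈ P, ∃ x : V, ∀ u ∉ q.asIdeal, (u * g) • x ≠ 0 := by
    by_contra hne
    exact hg fun q hq x => by
      by_contra hh
      exact hne ⟨q, hq, x, fun u hu h => hh ⟨u, hu, h⟩⟩
  have hp₀q : p₀ ≤ q.asIdeal := fun u hu => by
    by_contra huq
    obtain ⟨v, hv, h⟩ := (hcolon u).1 hu q hq x
    exact hx (v * u) (q.asIdeal.primeCompl.mul_mem hv huq) (by rw [mul_assoc]; exact h)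
  let p₀' : PrimeSpectrum A := ⟨p₀, hp₀.1.1⟩
  have hp₀T : p₀' ∉ T' := fun h => hpT (hT' ((PrimeSpectrum.le_iff_specializes p₀' p).1 hp₀p) h)
  obtain ⟨G, hG⟩ := Module.finite_def.1 (inferInstance : Module.Finite A V)
  choose t ht htx using fun x : V => hP p₀' hp₀T q hq hp₀q x
  have hJ : (∏ x ∈ G, t x) ∈ J := by
    intro q' _ x
    refine ⟨1, q'.asIdeal.primeCompl.one_mem, ?_⟩
    rw [one_mul]
    have hh : x ∈ Submodule.span A (G : Set V) := hG ▸ Submodule.mem_top
    induction hh using Submodule.span_induction with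
    | mem z hz =>
      obtain ⟨c, hc⟩ := Finset.dvd_prod_of_mem t hz
      rw [hc, mul_comm, mul_smul, htx z, smul_zero]
    | zero => exact smul_zero _
    | add a b _ _ ha hb => rw [smul_add, ha, hb, add_zero]
    | smul r a _ ha => rw [smul_comm, ha, smul_zero]
  obtain ⟨y, -, hy⟩ := Ideal.IsPrime.prod_mem_iff.1 (hp₀.1.2 hJ)
  exact ht y hy

theorem locKills_low {C : CochainComplex (ModuleCat.{u} A) ℤ} (q : PrimeSpectrum A) (g : A) (i : ℤ)
    [Subsingleton (C.X i)] : LocKills C q g i := fun _ _ _ _ _ _ _ =>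
  ⟨1, q.asIdeal.primeCompl.one_mem, 0, ⟨0, fun a _ => smul_zero a⟩, Subsingleton.elim _ _⟩

variable {ω : Dual.D A} (hω : Dual.IsDualizing A ω) {C : CochainComplex (ModuleCat.{u} A) ℤ}
  (hC : ∀ n, Module.Injective A (C.X n)) {a : ℤ} (hlow : ∀ n < a, Subsingleton (C.X n)) {K : Dual.D A}
  (e : Q.obj C ≅ K) (hK : ∀ j, Module.Finite A (Dual.HD A K j))

include hω hC hlow e hK

/-- The annihilation criterion. -/
theorem exists_kills_iff {T T' : Set (PrimeSpectrum A)} (hT : StableUnderSpecialization T)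
    (hT' : StableUnderSpecialization T') (s : ℤ) :
    (∃ J : Ideal A, PrimeSpectrum.zeroLocus (J : Set A) ⊆ T' ∧ ∀ i, i ≤ s → ∀ g ∈ J, Kills C (gamC T C) g i) ↔
      ∀ p q : PrimeSpectrum A, p ≤ q → p ∉ T' → q ∈ T → ∀ i : ℤ, i ≤ s →
        ∀ x : K ⟶ ω⟦degree hω q - i⟧, ∃ t ∉ p.asIdeal, t • x = 0 := by
  classical
  constructor
  · rintro ⟨J, hJT, hJ⟩ p q hpq hp hq i hi x
    haveI := hC
    obtain ⟨m, hm⟩ := exists_locKills_pow (C := C) (T := T) J a s hlow hT hJ
    obtain ⟨g, hg, hgp⟩ : ∃ g ∈ J ^ m, g ∉ p.asIdeal := SetLike.not_le_iff_exists.1 fun h =>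
      hp (hJT (Ideal.IsPrime.le_of_pow_le (P := p.asIdeal) h))
    obtain ⟨u, hu, hux⟩ := (locKills_iff_hom hω hC hlow e hK q i g).1 (hm g hg q hq i hi) x
    exact ⟨u * g, p.asIdeal.primeCompl.mul_mem (fun h => hu (hpq h)) hgp, hux⟩
  · intro hcrit
    obtain ⟨d₁, d₂, hd⟩ := exists_degree_bounds hω
    obtain ⟨a', b', hab⟩ := hω.finite_injective_dimension
    obtain ⟨r⟩ := exists_injRep ω a' b' hab
    have hstep : ∀ m : ℤ, ∃ J : Ideal A, PrimeSpectrum.zeroLocus (J : Set A) ⊆ T' ∧
        ∀ g ∈ J, ∀ q ∈ {q : PrimeSpectrum A | q ∈ T ∧ degree hω q - m ≤ s},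
          ∀ x : K ⟶ ω⟦m⟧, ∃ u ∉ q.asIdeal, (u * g) • x = 0 := by
      intro m
      haveI : Module.Finite A (K ⟶ ω⟦m⟧) := finite_hom_of_injRep r hK hω.finite_cohomology m
      refine exists_ideal_saturation (K ⟶ ω⟦m⟧) hT' _ fun p hp q hq hpq => ?_
      have h := hcrit p q hpq hp hq.1 (degree hω q - m) hq.2
      rw [sub_sub_cancel] at h
      exact h
    choose Jm hJm using hstep
    let J : Ideal A := ∏ m ∈ Finset.Icc (d₁ - s) (d₂ - a), Jm m
    have hJT : PrimeSpectrum.zeroLocus (J : Set A) ⊆ T' := fun p hp => by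
      obtain ⟨m, -, hm⟩ := p.2.prod_le.1 hp
      exact (hJm m).1 hm
    have hloc : ∀ g ∈ J, ∀ q ∈ T, ∀ i, i ≤ s → LocKills C q g i := by
      intro g hg q hq i hi
      rcases lt_or_ge i a with hia | hia
      · haveI := hlow i hia
        exact locKills_low q g i
      · refine (locKills_iff_hom hω hC hlow e hK q i g).2 ?_
        have hmem : degree hω q - i ∈ Finset.Icc (d₁ - s) (d₂ - a) := by
          rw [Finset.mem_Icc]
          have := hd q
          omega
        have hg' : g ∈ Jm (degree hω q - i) :=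
          (Ideal.prod_le_inf.trans (Finset.inf_le hmem)) hg
        exact (hJm _).2 g hg' q ⟨hq, by omega⟩
    obtain ⟨N, hN⟩ := exists_ringKrullDim_le hω
    have hchain : ∀ l : LTSeries ↥T, l.length < N + 1 := fun l => by
      have h1 := (Order.LTSeries.length_le_krullDim (l.map Subtype.val fun _ _ h => h)).trans hN
      have h2 : (l.map Subtype.val fun _ _ h => h).length = l.length := rfl
      rw [h2] at h1
      exact Nat.lt_succ_of_le (by exact_mod_cast h1)
    refine ⟨⨅ i ∈ Finset.Icc a s, killIdeal C (gamC T C) i, fun p hp => hJT fun g hg => ?_, fun i hi g hg => ?_⟩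
    · refine p.2.mem_of_pow_mem (N + 1) (hp ?_)
      simp only [SetLike.mem_coe, Submodule.mem_iInf]
      intro i hi
      exact kills_of_local (hC := hC) g i (N + 1) hT hchain fun q hq => hloc g hg q hq i (Finset.mem_Icc.1 hi).2
    · simp only [Submodule.mem_iInf] at hg
      rcases lt_or_ge i a with hia | hia
      · haveI := hlow i hia
        exact kills_of_low g i
      · exact hg i (Finset.mem_Icc.2 ⟨hia, hi⟩)

end Groth.SuppCx
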