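import Groth.Agent.SuppCx.Basic

/-!
The fibre of multiplication by an element on a complex of modules.
-/

set_option autoImplicit false
set_option linter.unusedSectionVars false
set_option linter.style.haveILetI false

universe u

open CategoryTheory Groth.LocCohTransform.SupportExt

namespace Groth.SuppCx

variable {A : Type u} [CommRing A] (C : CochainComplex (ModuleCat.{u} A) ℤ) (f : A)

/-- The differential of the fibre. -/
noncomputable def fibD (n : ℤ) : (C.X (n + 1) × C.X n) →ₗ[A] (C.X (n + 1 + 1) × C.X (n + 1)) :=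
  LinearMap.prod (-((C.d (n + 1) (n + 1 + 1)).hom ∘ₗ LinearMap.fst A (C.X (n + 1)) (C.X n)))
    (f • LinearMap.fst A (C.X (n + 1)) (C.X n) + (C.d n (n + 1)).hom ∘ₗ LinearMap.snd A (C.X (n + 1)) (C.X n))

/-- The fibre of `f` on `C`, in the shifted indexing. -/
noncomputable def fib : CochainComplex (ModuleCat.{u} A) ℤ :=
  CochainComplex.of (fun n => ModuleCat.of A (C.X (n + 1) × C.X n)) (fun n => ModuleCat.ofHom (fibD C f n))
    fun n => by
      ext1
      refine LinearMap.ext fun x => ?_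
      refine Prod.ext ?_ ?_
      · show -(C.d (n + 1 + 1) (n + 1 + 1 + 1)).hom (-(C.d (n + 1) (n + 1 + 1)).hom x.1) = 0
        rw [map_neg, d_d_apply, neg_zero, neg_zero]
      · show f • (-(C.d (n + 1) (n + 1 + 1)).hom x.1) +
          (C.d (n + 1) (n + 1 + 1)).hom (f • x.1 + (C.d n (n + 1)).hom x.2) = 0
        rw [map_add, map_smul, d_d_apply, add_zero, smul_neg, neg_add_cancel]

variable {C f}

theorem fib_d (n : ℤ) : ((fib C f).d n (n + 1)).hom = fibD C f n := by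
  have h := CochainComplex.of_d (fun n => ModuleCat.of A (C.X (n + 1) × C.X n)) (fun n => ModuleCat.ofHom (fibD C f n)) n
  exact congrArg ModuleCat.Hom.hom h

theorem fib_injective [hC : ∀ n, Module.Injective A (C.X n)] (n : ℤ) : Module.Injective A ((fib C f).X n) := by
  haveI := hC n
  haveI := hC (n + 1)
  refine Module.Baer.injective (Q := (C.X (n + 1) × C.X n)) fun I g => ?_
  obtain ⟨g₁, h₁⟩ := Module.Baer.of_injective (hC (n + 1)) I ((LinearMap.fst A _ _) ∘ₗ g)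
  obtain ⟨g₂, h₂⟩ := Module.Baer.of_injective (hC n) I ((LinearMap.snd A _ _) ∘ₗ g)
  exact ⟨g₁.prod g₂, fun x hx => Prod.ext (h₁ x hx) (h₂ x hx)⟩

theorem fib_low {a : ℤ} (hlow : ∀ n < a, Subsingleton (C.X n)) (n : ℤ) (hn : n < a - 1) :
    Subsingleton ((fib C f).X n) := by
  haveI := hlow n (by omega)
  haveI := hlow (n + 1) (by omega)
  exact inferInstanceAs (Subsingleton (C.X (n + 1) × C.X n))

/-- Termwise products of a family. -/
def fibS (S : ∀ n, Submodule A (C.X n)) : ∀ n, Submodule A ((fib C f).X n) :=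
  fun n => (S (n + 1)).prod (S n)

theorem gamC_fib (T : Set (PrimeSpectrum A)) : gamC T (fib C f) = fibS (gamC T C) := by
  funext n
  refine le_antisymm (fun x hx => ⟨map_mem_gam (LinearMap.fst A (C.X (n + 1)) (C.X n)) hx,
    map_mem_gam (LinearMap.snd A (C.X (n + 1)) (C.X n)) hx⟩) ?_
  rintro ⟨x, y⟩ ⟨hx, hy⟩
  have h1 := map_mem_gam (LinearMap.inl A (C.X (n + 1)) (C.X n)) hx
  have h2 := map_mem_gam (LinearMap.inr A (C.X (n + 1)) (C.X n)) hy
  have h3 := Submodule.add_mem _ h1 h2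
  show (x, y) ∈ Gam T (C.X (n + 1) × C.X n)
  rw [show ((x, y) : C.X (n + 1) × C.X n) = LinearMap.inl A (C.X (n + 1)) (C.X n) x +
    LinearMap.inr A (C.X (n + 1)) (C.X n) y by simp]
  exact h3

theorem topC_fib : topC (fib C f) = fibS (topC C) := by
  funext n
  exact (Submodule.prod_top (R := A) (M := C.X (n + 1)) (M' := C.X n)).symm

variable {S : ∀ n, Submodule A (C.X n)}

theorem cycle_iff {n : ℤ} (x : C.X (n + 1) × C.X n) :
    ((fib C f).d n (n + 1)).hom x = 0 ↔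
      (C.d (n + 1) (n + 1 + 1)).hom x.1 = 0 ∧ f • x.1 + (C.d n (n + 1)).hom x.2 = 0 := by
  rw [fib_d]
  exact Prod.ext_iff.trans (and_congr (neg_eq_zero) Iff.rfl)

/-- `f` annihilates the cohomology of the fibre. -/
theorem kills_fib_self (i : ℤ) : Kills (fib C f) (fibS S) f i := by
  intro j k hj hk z hz hdz
  subst hj
  subst hk
  obtain ⟨x, y⟩ := z
  obtain ⟨-, h2⟩ := (cycle_iff (x, y)).1 hdz
  refine mem_Bc.2 ⟨(y, 0), ⟨hz.2, Submodule.zero_mem _⟩, ?_⟩
  rw [fib_d]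
  refine Prod.ext ?_ ?_
  · show -(C.d (j + 1) (j + 1 + 1)).hom y = f • x
    rw [neg_eq_iff_add_eq_zero]
    exact (add_comm _ _).trans h2
  · show f • y + (C.d j (j + 1)).hom 0 = f • y
    rw [map_zero, add_zero]

/-- The square of an element annihilating the cohomology of `C` annihilates that of the fibre. -/
theorem kills_fib_mul {g : A} (i : ℤ) (h1 : Kills C S g i) (h2 : Kills C S g (i + 1)) :
    Kills (fib C f) (fibS S) (g * g) i := by
  intro j k hj hk z hz hdz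
  subst hj
  subst hk
  obtain ⟨x, y⟩ := z
  obtain ⟨hdx, hdy⟩ := (cycle_iff (x, y)).1 hdz
  obtain ⟨u, hu, hux⟩ := mem_Bc.1 (h2 (j := j + 1) (k := j + 1 + 1 + 1) rfl rfl x hz.1 hdx)
  have hmem : g • y + f • u ∈ S (j + 1) := Submodule.add_mem _ (Submodule.smul_mem _ _ hz.2) (Submodule.smul_mem _ _ hu)
  have hcyc : (C.d (j + 1) (j + 1 + 1)).hom (g • y + f • u) = 0 := by
    rw [map_add, map_smul, map_smul, hux, smul_comm f g, ← smul_add]
    exact (congrArg (g • ·) ((add_comm _ _).trans hdy)).trans (smul_zero g)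
  obtain ⟨w, hw, hwy⟩ := mem_Bc.1 (h1 (j := j) (k := j + 1 + 1) rfl rfl _ hmem hcyc)
  refine mem_Bc.2 ⟨(-(g • u), w), ⟨Submodule.neg_mem _ (Submodule.smul_mem _ _ hu), hw⟩, ?_⟩
  rw [fib_d]
  refine Prod.ext ?_ ?_
  · show -(C.d (j + 1) (j + 1 + 1)).hom (-(g • u)) = (g * g) • x
    rw [map_neg, map_smul, hux, neg_neg, mul_smul]
  · show f • (-(g • u)) + (C.d j (j + 1)).hom w = (g * g) • y
    rw [hwy, smul_add, smul_neg, smul_comm f g, mul_smul]
    abel

/-- If `f` annihilates the cohomology of `C` in degree `m + 1`, it is a quotient of that of the fibre. -/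
theorem finite_of_fib {m : ℤ} (hf : Kills C S f (m + 1))
    [Module.Finite A (Hc (fib C f) (fibS S) (m - 1) m (m + 1))] :
    Module.Finite A (Hc C S m (m + 1) (m + 1 + 1)) := by
  let φ : Zc (fib C f) (fibS S) m (m + 1) →ₗ[A] Hc C S m (m + 1) (m + 1 + 1) :=
    Submodule.mkQ _ ∘ₗ LinearMap.codRestrict _
      (LinearMap.fst A (C.X (m + 1)) (C.X m) ∘ₗ (Zc (fib C f) (fibS S) m (m + 1)).subtype)
      fun z => ⟨z.2.1.1, ((cycle_iff z.1).1 z.2.2).1⟩
  have hle : (Bc (fib C f) (fibS S) (m - 1) m).comap (Zc (fib C f) (fibS S) m (m + 1)).subtype ≤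
      LinearMap.ker φ := by
    rintro ⟨z, hz⟩ hb
    obtain ⟨j, rfl⟩ : ∃ j, m = j + 1 := ⟨m - 1, by omega⟩
    have e : j + 1 - 1 = j := by omega
    obtain ⟨⟨u, v⟩, huv, he⟩ : ∃ y ∈ fibS S j, ((fib C f).d j (j + 1)).hom y = z := by
      rw [← e] at *
      exact mem_Bc.1 (by simpa [e] using hb)
    rw [LinearMap.mem_ker]
    refine (Submodule.Quotient.mk_eq_zero _).2 (mem_Bc.2 ⟨-u, Submodule.neg_mem _ huv.1, ?_⟩)
    rw [fib_d] at he
    show (C.d (j + 1) (j + 1 + 1)).hom (-u) = z.1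
    rw [← he, map_neg]
    rfl
  refine Module.Finite.of_surjective (((Bc (fib C f) (fibS S) (m - 1) m).comap _).liftQ φ hle) fun t => ?_
  obtain ⟨⟨x, hx, hdx⟩, rfl⟩ := Submodule.Quotient.mk_surjective _ t
  obtain ⟨y, hy, hyx⟩ := mem_Bc.1 (hf (j := m) (k := m + 1 + 1) rfl rfl x hx hdx)
  refine ⟨Submodule.Quotient.mk ⟨(x, -y), ⟨hx, Submodule.neg_mem _ hy⟩, (cycle_iff (x, -y)).2 ⟨hdx, ?_⟩⟩, rfl⟩
  rw [map_neg, hyx, add_neg_cancel]

/-- Finiteness for the fibre. -/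
theorem finite_fib [IsNoetherianRing A] {j : ℤ} [Module.Finite A (Hc C S j (j + 1) (j + 1 + 1))]
    [Module.Finite A (Hc C S (j + 1) (j + 1 + 1) (j + 1 + 1 + 1))] :
    Module.Finite A (Hc (fib C f) (fibS S) j (j + 1) (j + 1 + 1)) := by
  let Z := Zc (fib C f) (fibS S) (j + 1) (j + 1 + 1)
  let P : Z →ₗ[A] Hc C S (j + 1) (j + 1 + 1) (j + 1 + 1 + 1) :=
    Submodule.mkQ _ ∘ₗ LinearMap.codRestrict _
      (LinearMap.fst A (C.X (j + 1 + 1)) (C.X (j + 1)) ∘ₗ Z.subtype)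
      fun z => ⟨z.2.1.1, ((cycle_iff z.1).1 z.2.2).1⟩
  have hleP : (Bc (fib C f) (fibS S) j (j + 1)).comap Z.subtype ≤ LinearMap.ker P := by
    rintro ⟨z, hz⟩ hb
    obtain ⟨⟨u, v⟩, huv, he⟩ := mem_Bc.1 hb
    rw [LinearMap.mem_ker]
    refine (Submodule.Quotient.mk_eq_zero _).2 (mem_Bc.2 ⟨-u, Submodule.neg_mem _ huv.1, ?_⟩)
    rw [fib_d] at he
    show (C.d (j + 1) (j + 1 + 1)).hom (-u) = z.1
    rw [← show fibD C f j (u, v) = z from he, map_neg]
    rfl
  let I : Zc C S (j + 1) (j + 1 + 1) →ₗ[A] Z :=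
    LinearMap.codRestrict Z
      (LinearMap.inr A (C.X (j + 1 + 1)) (C.X (j + 1)) ∘ₗ (Zc C S (j + 1) (j + 1 + 1)).subtype)
      fun z => ⟨⟨Submodule.zero_mem _, z.2.1⟩, (cycle_iff (0, z.1)).2 ⟨map_zero _, by
        rw [smul_zero, zero_add]; exact z.2.2⟩⟩
  let I' : Hc C S j (j + 1) (j + 1 + 1) →ₗ[A] Hc (fib C f) (fibS S) j (j + 1) (j + 1 + 1) :=
    Submodule.mapQ _ _ I (by
      rintro ⟨y, hy⟩ hb
      obtain ⟨w, hw, hwy⟩ := mem_Bc.1 hb
      refine mem_Bc.2 ⟨(0, w), ⟨Submodule.zero_mem _, hw⟩, ?_⟩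
      rw [fib_d]
      refine Prod.ext ?_ ?_
      · show -(C.d (j + 1) (j + 1 + 1)).hom 0 = 0
        rw [map_zero, neg_zero]
      · show f • (0 : C.X (j + 1)) + (C.d j (j + 1)).hom w = y
        rw [smul_zero, zero_add]
        exact hwy)
  let P' := ((Bc (fib C f) (fibS S) j (j + 1)).comap Z.subtype).liftQ P hleP
  have hex : LinearMap.ker P' ≤ LinearMap.range I' := by
    intro t ht
    obtain ⟨⟨⟨x, y⟩, hxy, hd⟩, rfl⟩ := Submodule.Quotient.mk_surjective _ t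
    have ht' : x ∈ Bc C S (j + 1) (j + 1 + 1) :=
      (Submodule.Quotient.mk_eq_zero ((Bc C S (j + 1) (j + 1 + 1)).comap
        (Zc C S (j + 1 + 1) (j + 1 + 1 + 1)).subtype)).1 (show Submodule.Quotient.mk (p := (Bc C S (j + 1) (j + 1 + 1)).comap
        (Zc C S (j + 1 + 1) (j + 1 + 1 + 1)).subtype) ⟨x, hxy.1, ((cycle_iff (x, y)).1 hd).1⟩ = 0 from
          LinearMap.mem_ker.1 ht)
    obtain ⟨w, hw, hwx⟩ := mem_Bc.1 ht'
    change (C.d (j + 1) (j + 1 + 1)).hom w = x at hwx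
    obtain ⟨hdx, hdy⟩ := (cycle_iff (x, y)).1 hd
    refine ⟨Submodule.Quotient.mk ⟨y + f • w, Submodule.add_mem _ hxy.2 (Submodule.smul_mem _ _ hw), ?_⟩, ?_⟩
    · show (C.d (j + 1) (j + 1 + 1)).hom (y + f • w) = 0
      rw [map_add, map_smul, hwx]
      exact (add_comm _ _).trans hdy
    · show Submodule.Quotient.mk (I ⟨y + f • w, _⟩) = _
      rw [Submodule.Quotient.eq]
      refine mem_Bc.2 ⟨(w, 0), ⟨hw, Submodule.zero_mem _⟩, ?_⟩
      rw [fib_d]
      refine Prod.ext ?_ ?_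
      · show -(C.d (j + 1) (j + 1 + 1)).hom w = 0 - x
        rw [hwx, zero_sub]
      · show f • w + (C.d j (j + 1)).hom 0 = y + f • w - y
        rw [map_zero, add_zero, add_sub_cancel_left]
  haveI : Module.Finite A (LinearMap.ker P') :=
    Module.Finite.iff_fg.2 (Submodule.FG.of_le (Module.Finite.iff_fg.1 inferInstance) hex)
  haveI : Module.Finite A ((Hc (fib C f) (fibS S) j (j + 1) (j + 1 + 1)) ⧸ LinearMap.ker P') :=
    Module.Finite.equiv P'.quotKerEquivRange.symm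
  exact Module.Finite.of_submodule_quotient (LinearMap.ker P')

end Groth.SuppCx
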