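import Groth.Agent.SuppCx.Fib
import Groth.Agent.LocCohTransform.RgammaCompute
import Mathlib.RingTheory.Finiteness.Basic

/-!
Finiteness of the cohomology with supports in `T` is annihilation by an ideal with zero locus in `T`.
-/

set_option autoImplicit false
set_option linter.unusedSectionVars false
set_option linter.style.haveILetI false

universe u

open CategoryTheory Groth.LocCohTransform.SupportExt

namespace Groth.SuppCx

variable {A : Type u} [CommRing A]

theorem finite_Hc_congr {C : CochainComplex (ModuleCat.{u} A) ℤ} {S : ∀ n, Submodule A (C.X n)}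
    {j i k j' i' k' : ℤ} (hi : i' = i) (hj : j' = j) (hk : k' = k)
    [h : Module.Finite A (Hc C S j i k)] : Module.Finite A (Hc C S j' i' k') := by
  subst hi
  subst hj
  subst hk
  exact h

variable [IsNoetherianRing A]

/-- With cohomology killed by elements cutting out a subset of `T`, the supported cohomology embeds. -/
theorem mem_Bc_gam_of_mem_Bc_top {C : CochainComplex (ModuleCat.{u} A) ℤ}
    (hC : ∀ n, Module.Injective A (C.X n)) {T : Set (PrimeSpectrum A)} {D : List A}
    (hD : ∀ g ∈ D, ∀ i, Kills C (topC C) g i)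
    (hV : ∀ p : PrimeSpectrum A, (∀ g ∈ D, g ∈ p.asIdeal) → p ∈ T)
    {j i : ℤ} (hj : j + 1 = i) {x : C.X i} (hx : x ∈ Gam T (C.X i)) (hxB : x ∈ Bc C (topC C) j i) :
    x ∈ Bc C (gamC T C) j i := by
  classical
  subst hj
  obtain ⟨y, -, hy⟩ := mem_Bc.1 hxB
  obtain ⟨G, hG⟩ := IsNoetherian.noetherian (LinearMap.ker (LinearMap.toSpanSingleton A (C.X (j + 1)) x))
  let s : Finset A := (D.toFinset ×ˢ G).image fun t => t.1 * t.2
  have ht : ∀ f ∈ s, ∀ n, ∀ z : C.X n, (C.d n (n + 1)).hom z = 0 →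
      ∃ (k : ℕ) (w : C.X (n - 1)), (C.d (n - 1) n).hom w = f ^ k • z := by
    intro f hf n z hz
    obtain ⟨⟨g, c⟩, hgc, rfl⟩ := Finset.mem_image.1 hf
    obtain ⟨w, -, hw⟩ := mem_Bc.1 (hD g (List.mem_toFinset.1 (Finset.mem_product.1 hgc).1) n
      (sub_add_cancel n 1) rfl z Submodule.mem_top hz)
    exact ⟨1, c • w, by rw [map_smul, hw, pow_one, smul_smul, mul_comm]⟩
  obtain ⟨-, h2⟩ := Groth.LocCohTransform.RgammaCompute.good s C hC ht
  have e : j + 1 - 1 = j := by omega
  have h2' : ∀ w : C.X j, (C.d j (j + 1)).hom w ∈ DRing.torsionSub (Ideal.span (s : Set A)) (C.X (j + 1)) →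
      ∃ w' ∈ DRing.torsionSub (Ideal.span (s : Set A)) (C.X j),
        (C.d j (j + 1)).hom w' = (C.d j (j + 1)).hom w := by
    have := h2 (j + 1)
    rwa [e] at this
  have hspan : ∀ a ∈ Ideal.span (s : Set A), a • x = 0 := by
    intro a ha
    induction ha using Submodule.span_induction with
    | mem a ha =>
      obtain ⟨⟨g, c⟩, hgc, rfl⟩ := Finset.mem_image.1 ha
      rw [mul_smul, show c • x = 0 from
        (hG ▸ Submodule.subset_span (Finset.mem_product.1 hgc).2 :
          c ∈ LinearMap.ker (LinearMap.toSpanSingleton A (C.X (j + 1)) x)), smul_zero]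
    | zero => exact zero_smul _ _
    | add a b _ _ h1 h2 => rw [add_smul, h1, h2, add_zero]
    | smul r a _ h => rw [smul_eq_mul, mul_smul, h, smul_zero]
  have hzero : ∀ n, ∀ w ∈ DRing.torsionSub (Ideal.span (s : Set A)) (C.X n), w ∈ Gam T (C.X n) := by
    rintro n w ⟨l, hl⟩
    refine mem_gam_of_killed (J := Ideal.span (s : Set A) ^ l) (fun p hp => ?_) hl
    have hsp : Ideal.span (s : Set A) ≤ p.asIdeal := Ideal.IsPrime.le_of_pow_le hp
    by_contra hpT
    obtain ⟨g, hg, hgp⟩ : ∃ g ∈ D, g ∉ p.asIdeal := by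
      by_contra hne
      exact hpT (hV p fun g hg => by_contra fun h => hne ⟨g, hg, h⟩)
    refine hpT (zeroLocus_ann_subset hx fun c hc => ?_)
    rw [SetLike.mem_coe, ← hG] at hc
    refine (Submodule.span_le.2 (fun c hc => ?_)) hc
    exact (p.2.mem_or_mem (hsp (Ideal.subset_span (Finset.mem_image.2
      ⟨(g, c), Finset.mem_product.2 ⟨List.mem_toFinset.2 hg, hc⟩, rfl⟩)))).resolve_left hgp
  obtain ⟨y', hy', hy''⟩ := h2' y (hy.symm ▸ ⟨1, by simpa using hspan⟩)
  exact mem_Bc.2 ⟨y', hzero j y' hy', hy''.trans hy⟩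

/-- The inductive form: finitely many elements annihilate the supported cohomology up to `b`, finitely
many others all the cohomology, and together they cut out a subset of `T`. -/
theorem finite_of_killed {T : Set (PrimeSpectrum A)} :
    ∀ (N : ℕ) (L : List A), L.length = N → ∀ (C : CochainComplex (ModuleCat.{u} A) ℤ),
      (∀ n, Module.Injective A (C.X n)) →
      (∀ j : ℤ, Module.Finite A (Hc C (topC C) j (j + 1) (j + 1 + 1))) →
      ∀ (D : List A), (∀ g ∈ D, ∀ i, Kills C (topC C) g i) →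
      (∀ p : PrimeSpectrum A, (∀ g ∈ D, g ∈ p.asIdeal) → (∀ g ∈ L, g ∈ p.asIdeal) → p ∈ T) →
      ∀ (b : ℤ), (∀ g ∈ L, ∀ i, i ≤ b + 1 → Kills C (gamC T C) g i) →
        Module.Finite A (Hc C (gamC T C) b (b + 1) (b + 1 + 1)) := by
  intro N
  induction N with
  | zero =>
    intro L hL C hC hfin D hD hV b _
    obtain rfl := List.length_eq_zero_iff.1 hL
    haveI := hfin b
    let ι : Zc C (gamC T C) (b + 1) (b + 1 + 1) →ₗ[A] Zc C (topC C) (b + 1) (b + 1 + 1) :=
      Submodule.inclusion fun x hx => ⟨Submodule.mem_top, hx.2⟩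
    refine Module.Finite.of_injective (Submodule.mapQ
      ((Bc C (gamC T C) b (b + 1)).comap (Zc C (gamC T C) (b + 1) (b + 1 + 1)).subtype)
      ((Bc C (topC C) b (b + 1)).comap (Zc C (topC C) (b + 1) (b + 1 + 1)).subtype) ι (fun x hx => ?_)) ?_
    · obtain ⟨w, -, hw⟩ := mem_Bc.1 hx
      exact mem_Bc.2 ⟨w, Submodule.mem_top, hw⟩
    · rw [← LinearMap.ker_eq_bot, LinearMap.ker_eq_bot']
      intro t ht
      obtain ⟨⟨x, hx⟩, rfl⟩ := Submodule.Quotient.mk_surjective _ t
      rw [Submodule.mapQ_apply, Submodule.Quotient.mk_eq_zero] at ht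
      rw [Submodule.Quotient.mk_eq_zero]
      exact mem_Bc_gam_of_mem_Bc_top hC hD (fun p hp => hV p hp (by simp)) rfl hx.1 ht
  | succ N ih =>
    intro L hL C hC hfin D hD hV b hkill
    obtain ⟨f, L', rfl⟩ := List.exists_cons_of_length_eq_add_one hL
    have hkey : Module.Finite A (Hc (fib C f) (gamC T (fib C f)) (b - 1) (b - 1 + 1) (b - 1 + 1 + 1)) := by
      refine ih (L'.map fun g => g * g) (by simpa using hL) (fib C f) (fun n => fib_injective n)
        (fun j => ?_) (f :: D.map fun g => g * g) ?_ ?_ (b - 1) ?_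
      · haveI := hfin j
        haveI := hfin (j + 1)
        rw [topC_fib]
        exact finite_fib
      · intro g hg i
        rw [topC_fib]
        rcases List.mem_cons.1 hg with rfl | hg
        · exact kills_fib_self i
        · obtain ⟨g', hg', rfl⟩ := List.mem_map.1 hg
          exact kills_fib_mul i (hD g' hg' i) (hD g' hg' (i + 1))
      · intro p h1 h2
        refine hV p (fun g hg => ?_) fun g hg => ?_
        · exact (p.2.mem_or_mem (h1 _ (List.mem_cons_of_mem _ (List.mem_map.2 ⟨g, hg, rfl⟩)))).elim id id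
        · rcases List.mem_cons.1 hg with rfl | hg
          · exact h1 _ (List.mem_cons_self ..)
          · exact (p.2.mem_or_mem (h2 _ (List.mem_map.2 ⟨g, hg, rfl⟩))).elim id id
      · intro g hg i hi
        obtain ⟨g', hg', rfl⟩ := List.mem_map.1 hg
        rw [gamC_fib]
        exact kills_fib_mul i (hkill g' (List.mem_cons_of_mem _ hg') i (by omega))
          (hkill g' (List.mem_cons_of_mem _ hg') (i + 1) (by omega))
    rw [gamC_fib] at hkey
    haveI := hkey
    haveI : Module.Finite A (Hc (fib C f) (fibS (gamC T C)) (b - 1) b (b + 1)) :=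
      finite_Hc_congr (j := b - 1) (i := b - 1 + 1) (k := b - 1 + 1 + 1) (by omega) rfl (by omega)
    exact finite_of_fib (hkill f (List.mem_cons_self ..) (b + 1) le_rfl)

/-- An ideal with zero locus in `T` annihilating the supported cohomology up to `b` makes it finite. -/
theorem finite_of_kills {C : CochainComplex (ModuleCat.{u} A) ℤ} (hC : ∀ n, Module.Injective A (C.X n))
    (hfin : ∀ j : ℤ, Module.Finite A (Hc C (topC C) j (j + 1) (j + 1 + 1))) {T : Set (PrimeSpectrum A)}
    (J : Ideal A) (hJ : PrimeSpectrum.zeroLocus (J : Set A) ⊆ T) (b : ℤ)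
    (hkill : ∀ g ∈ J, ∀ i, i ≤ b → Kills C (gamC T C) g i) {j k : ℤ} (hj : j + 1 = b) (hk : b + 1 = k) :
    Module.Finite A (Hc C (gamC T C) j b k) := by
  classical
  subst hj
  subst hk
  obtain ⟨G, hG⟩ := IsNoetherian.noetherian J
  refine finite_of_killed G.toList.length G.toList rfl C hC hfin [] (by simp) (fun p _ hp => hJ ?_) j
    fun g hg i hi => hkill g (hG ▸ Submodule.subset_span (Finset.mem_toList.1 hg)) i hi
  show (J : Set A) ⊆ p.asIdeal
  rw [← hG]
  exact Submodule.span_le.2 fun g hg => hp g (Finset.mem_toList.2 hg)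

/-- Finite supported cohomology is annihilated by an ideal with zero locus in `T`. -/
theorem exists_ideal_kills_of_finite {C : CochainComplex (ModuleCat.{u} A) ℤ} {T : Set (PrimeSpectrum A)}
    (i : ℤ) [Module.Finite A (Hc C (gamC T C) (i - 1) i (i + 1))] :
    ∃ J : Ideal A, PrimeSpectrum.zeroLocus (J : Set A) ⊆ T ∧ ∀ g ∈ J, Kills C (gamC T C) g i := by
  classical
  refine ⟨killIdeal C (gamC T C) i, fun p hp => ?_, fun g hg => hg⟩
  by_contra hpT
  obtain ⟨G, hG⟩ := (Module.finite_def.1 (inferInstance :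
    Module.Finite A (Hc C (gamC T C) (i - 1) i (i + 1))))
  choose t ht htz using fun z : G => (show ∃ t ∉ p.asIdeal, t • z.1 = 0 by
    obtain ⟨⟨x, hx⟩, hxz⟩ := Submodule.Quotient.mk_surjective _ z.1
    obtain ⟨t, ht, h⟩ := hx.1 p hpT
    refine ⟨t, ht, ?_⟩
    rw [← hxz, ← Submodule.Quotient.mk_smul, show t • (⟨x, hx⟩ : Zc C (gamC T C) i (i + 1)) = 0 from
      Subtype.ext h]
    exact Submodule.Quotient.mk_zero _)
  have hkill : (∏ z ∈ G.attach, t z) ∈ killIdeal C (gamC T C) i := by
    refine (kills_iff _ (sub_add_cancel i 1) rfl).2 fun h => ?_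
    have hh : h ∈ Submodule.span A (G : Set (Hc C (gamC T C) (i - 1) i (i + 1))) := hG ▸ Submodule.mem_top
    induction hh using Submodule.span_induction with
    | mem z hz =>
      obtain ⟨c, hc⟩ := Finset.dvd_prod_of_mem t (Finset.mem_attach G ⟨z, hz⟩)
      rw [hc, mul_comm, mul_smul, htz ⟨z, hz⟩, smul_zero]
    | zero => exact smul_zero _
    | add a b _ _ ha hb => rw [smul_add, ha, hb, add_zero]
    | smul r a _ ha => rw [smul_comm, ha, smul_zero]
  obtain ⟨z, -, hz⟩ := Ideal.IsPrime.prod_mem_iff.1 (hp hkill)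
  exact ht z hz

end Groth.SuppCx
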