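import Groth.Agent.SuppCx.Rep
import Groth.Agent.DualCore.LocalDuality

/-!
`HDI` at the maximal ideal of a local ring by an injective representative.
-/

set_option autoImplicit false
set_option linter.unusedSectionVars false
set_option linter.style.haveILetI false

universe u

open CategoryTheory CategoryTheory.Limits HomologicalComplex Groth.LocCohTransform.SupportExt IsLocalRing

attribute [local instance] HasDerivedCategory.standard

namespace Groth.SuppCx

variable {B : Type u} [CommRing B] [IsLocalRing B] [IsNoetherianRing B]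

/-- The closed point. -/
abbrev closedT (B : Type u) [CommRing B] [IsLocalRing B] : Set (PrimeSpectrum B) :=
  PrimeSpectrum.zeroLocus (maximalIdeal B : Set B)

theorem exists_pow_le {J : Ideal B} (hJ : PrimeSpectrum.zeroLocus (J : Set B) ⊆ closedT B) :
    ∃ l : ℕ, maximalIdeal B ^ l ≤ J := by
  refine Ideal.exists_pow_le_of_le_radical_of_fg ?_ (IsNoetherian.noetherian _)
  rw [Ideal.radical_eq_sInf]
  exact le_sInf fun Q hQ => hJ (show (⟨Q, hQ.2⟩ : PrimeSpectrum B) ∈ PrimeSpectrum.zeroLocus (J : Set B) from hQ.1)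

/-- The ideal `mᵏ`. -/
def powT (k : ℕ) : Dual2.IdealsIn (closedT B) :=
  ⟨maximalIdeal B ^ k, fun p hp => Ideal.IsPrime.le_of_pow_le (P := p.asIdeal) hp⟩

theorem nonempty_HDI_equiv_Hc {C : CochainComplex (ModuleCat.{u} B) ℤ} [C.IsKInjective] {K : Dual.D B}
    (e : DerivedCategory.Q.obj C ≅ K) {j i k : ℤ} (hj : j + 1 = i) (hk : i + 1 = k) :
    Nonempty (Dual2.HDI B (maximalIdeal B) K i ≃ₗ[B] Hc C (gamC (closedT B) C) j i k) := by
  obtain ⟨g⟩ := nonempty_Hc_shift C (closedT B) i (-1) 0 1
  obtain ⟨h⟩ := nonempty_Hc_congr C (S := gamC (closedT B) C) (j := -1 + i) (i := 0 + i) (k := 1 + i)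
    (show i = 0 + i by omega) (show j = -1 + i by omega) (show k = 1 + i by omega)
  let L := C⟦i⟧
  obtain ⟨P, hP, hinj, hsurj⟩ := exists_pairing (T := closedT B) (L := L)
    ((shiftFunctor (Dual.D B) i).mapIso e.symm ≪≫ ((DerivedCategory.Q.commShiftIso i).app C).symm)
  let V := ULift.{u + 1} (Hc L (gamC (closedT B) L) (-1) 0 1)
  obtain ⟨f⟩ := Groth.DualCore.nonempty_HDI_equiv_of_pairing K i (T := V)
    (fun n => ULift.moduleEquiv.symm.toLinearMap ∘ₗ P (powT n))
    (fun n m h' v => congrArg ULift.up (hP (powT n) (powT m) (Ideal.pow_le_pow_right h') v))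
    (fun n v hv => by
      obtain ⟨J', h', h0⟩ := hinj (powT n) v (congrArg ULift.down hv)
      obtain ⟨l, hl⟩ := exists_pow_le J'.property
      refine ⟨max l n, le_max_right _ _, ?_⟩
      have hle : maximalIdeal B ^ max l n ≤ J'.obj := (Ideal.pow_le_pow_right (le_max_left l n)).trans hl
      have hcomp : Groth.DualCore.qmap (A := B) (le_max_right l n) =
          Submodule.mapQ J'.obj (powT n).obj LinearMap.id
            (show J'.obj ≤ Submodule.comap LinearMap.id (powT n).obj from h') ∘ₗ
            Submodule.mapQ (maximalIdeal B ^ max l n) J'.obj LinearMap.id hle :=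
        Submodule.linearMap_qext _ rfl
      show Groth.DualCore.inDmap _ ≫ v = 0
      rw [hcomp]
      exact ((congrArg (· ≫ v) (Groth.DualCore.inDmap_comp _ _)).trans (Category.assoc _ _ _)).trans
        ((congrArg _ h0).trans comp_zero))
    (fun t => by
      obtain ⟨J, v, hv⟩ := hsurj t.down
      obtain ⟨l, hl⟩ := exists_pow_le J.property
      refine ⟨l, Groth.DualCore.inDmap (Submodule.mapQ (maximalIdeal B ^ l) J.obj LinearMap.id hl) ≫ v, ?_⟩
      refine congrArg ULift.up ((hP J (powT l) hl v).trans hv))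
  exact ⟨f ≪≫ₗ ULift.moduleEquiv ≪≫ₗ g ≪≫ₗ h⟩

end Groth.SuppCx
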