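import Groth.Agent.SuppCx.Bridge
import Groth.Agent.SuppCx.FiniteAnn
import Groth.Agent.DualCore.Biduality
import Mathlib.Algebra.Homology.DerivedCategory.SmallShiftedHom

/-!
Injective representatives of bounded below objects and their cohomology with supports.
-/

set_option autoImplicit false
set_option linter.unusedSectionVars false
set_option linter.style.haveILetI false

universe u

open CategoryTheory CategoryTheory.Limits HomologicalComplex Groth.LocCohTransform.SupportExt

attribute [local instance] HasDerivedCategory.standard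

namespace Groth.SuppCx

variable {A : Type u} [CommRing A]

/-- Bounded below objects have bounded below representatives by injectives. -/
theorem exists_injective_rep (K : Dual.D A) (a : ℤ)
    (hK : ∀ i : ℤ, i < a → Subsingleton (Dual.HD A K i)) :
    ∃ (C : CochainComplex (ModuleCat.{u} A) ℤ), C.IsKInjective ∧ (∀ n, Module.Injective A (C.X n)) ∧
      (∀ n < a, Subsingleton (C.X n)) ∧ Nonempty (DerivedCategory.Q.obj C ≅ K) := by
  haveI : DerivedCategory.IsGE K a := (DerivedCategory.isGE_iff K a).2 fun i hi =>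
    haveI := hK i hi
    ModuleCat.isZero_of_subsingleton _
  obtain ⟨K₀, hK₀, ⟨e⟩⟩ := DerivedCategory.exists_iso_Q_obj_of_isGE K a
  obtain ⟨C, f, hf, hinj, hC⟩ := CochainComplex.Plus.modelCategoryQuillen.exists_quasiIso_injective K₀ a
  exact ⟨C, CochainComplex.isKInjective_of_injective C a,
    fun n => (Module.injective_iff_injective_object A (C.X n)).2 (hinj n),
    fun n hn => ModuleCat.isZero_iff_subsingleton.1 (CochainComplex.isZero_of_isStrictlyGE C a n hn),
    ⟨(asIso (DerivedCategory.Q.map f)).symm ≪≫ e.symm⟩⟩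

variable (C : CochainComplex (ModuleCat.{u} A) ℤ) (T : Set (PrimeSpectrum A))

theorem Zc_shift (n i k : ℤ) :
    Zc (C⟦n⟧) (gamC T (C⟦n⟧)) i k = (Zc C (gamC T C) (i + n) (k + n) : Submodule A (C.X (i + n))) := by
  ext x
  refine and_congr Iff.rfl ?_
  show ((C⟦n⟧).d i k).hom x = 0 ↔ (C.d (i + n) (k + n)).hom x = 0
  rw [CochainComplex.shiftFunctor_obj_d']
  show ((n.negOnePow : ℤ) • C.d (i + n) (k + n)).hom x = 0 ↔ _
  rw [ModuleCat.hom_zsmul, LinearMap.smul_apply]
  rcases Int.units_eq_one_or n.negOnePow with h | h <;> simp [h]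

theorem Bc_shift (n j i : ℤ) :
    Bc (C⟦n⟧) (gamC T (C⟦n⟧)) j i = (Bc C (gamC T C) (j + n) (i + n) : Submodule A (C.X (i + n))) := by
  have hd : ∀ y : C.X (j + n), ((C⟦n⟧).d j i).hom y = (n.negOnePow : ℤ) • (C.d (j + n) (i + n)).hom y := by
    intro y
    rw [CochainComplex.shiftFunctor_obj_d']
    show ((n.negOnePow : ℤ) • C.d (j + n) (i + n)).hom y = _
    rw [ModuleCat.hom_zsmul, LinearMap.smul_apply]
  ext x
  refine ⟨fun ⟨y, hy, hyx⟩ => ⟨(n.negOnePow : ℤ) • y, zsmul_mem hy _, ?_⟩,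
    fun ⟨y, hy, hyx⟩ => ⟨(n.negOnePow : ℤ) • y, zsmul_mem hy _, ?_⟩⟩
  · exact (map_zsmul (C.d (j + n) (i + n)).hom _ _).trans ((hd y).symm.trans hyx)
  · refine (hd _).trans ?_
    rw [map_zsmul, smul_smul, ← Units.val_mul, Int.units_mul_self, Units.val_one, one_smul]
    exact hyx

/-- The shift. -/
theorem nonempty_Hc_shift (n j i k : ℤ) :
    Nonempty (Hc (C⟦n⟧) (gamC T (C⟦n⟧)) j i k ≃ₗ[A] Hc C (gamC T C) (j + n) (i + n) (k + n)) := by
  refine ⟨Submodule.Quotient.equiv _ _ (LinearEquiv.ofEq _ _ (Zc_shift C T n i k)) ?_⟩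
  ext ⟨x, hx⟩
  constructor
  · rintro ⟨⟨y, hy⟩, hb, he⟩
    have hyx : y = x := congrArg Subtype.val he
    subst hyx
    exact Bc_shift C T n j i ▸ hb
  · intro hb
    exact ⟨⟨x, (Zc_shift C T n i k).symm ▸ hx⟩, (Bc_shift C T n j i).symm ▸ hb, rfl⟩

theorem nonempty_Hc_congr {S : ∀ n, Submodule A (C.X n)} {j i k j' i' k' : ℤ} (hi : i' = i) (hj : j' = j)
    (hk : k' = k) : Nonempty (Hc C S j i k ≃ₗ[A] Hc C S j' i' k') := by
  subst hi
  subst hj
  subst hk
  exact ⟨LinearEquiv.refl _ _⟩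

variable {C T}

/-- `HDT` by an injective representative. -/
theorem nonempty_HDT_equiv [C.IsKInjective] {K : Dual.D A} (e : DerivedCategory.Q.obj C ≅ K)
    {j i k : ℤ} (hj : j + 1 = i) (hk : i + 1 = k) :
    Nonempty (Dual2.HDT A T K i ≃ₗ[A] Hc C (gamC T C) j i k) := by
  obtain ⟨f⟩ := nonempty_HDT_equiv_zero (T := T) (L := C⟦i⟧) K i
    ((shiftFunctor (Dual.D A) i).mapIso e.symm ≪≫ ((DerivedCategory.Q.commShiftIso i).app C).symm)
  obtain ⟨g⟩ := nonempty_Hc_shift C T i (-1) 0 1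
  obtain ⟨h⟩ := nonempty_Hc_congr C (S := gamC T C) (j := -1 + i) (i := 0 + i) (k := 1 + i)
    (show i = 0 + i by omega) (show j = -1 + i by omega) (show k = 1 + i by omega)
  exact ⟨f ≪≫ₗ g ≪≫ₗ h⟩

/-- `HT` by an injective representative. -/
theorem nonempty_HT_equiv [IsNoetherianRing A] [C.IsKInjective] {M : Type u} [AddCommGroup M] [Module A M]
    (e : DerivedCategory.Q.obj C ≅ Dual.inD A M) (n : ℕ) {j k : ℤ} (hj : j + 1 = (n : ℤ))
    (hk : (n : ℤ) + 1 = k) : Nonempty (Dual2.HT T n M ≃ₗ[A] Hc C (gamC T C) j n k) := by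
  obtain ⟨f⟩ := nonempty_HT_equiv_zero (T := T) (L := C⟦(n : ℤ)⟧) M n
    ((shiftFunctor (Dual.D A) (n : ℤ)).mapIso e.symm ≪≫ ((DerivedCategory.Q.commShiftIso (n : ℤ)).app C).symm)
  obtain ⟨g⟩ := nonempty_Hc_shift C T (n : ℤ) (-1) 0 1
  obtain ⟨h⟩ := nonempty_Hc_congr C (S := gamC T C) (j := -1 + (n : ℤ)) (i := 0 + (n : ℤ)) (k := 1 + (n : ℤ))
    (show (n : ℤ) = 0 + n by omega) (show j = -1 + (n : ℤ) by omega) (show k = 1 + (n : ℤ) by omega)
  exact ⟨f ≪≫ₗ g ≪≫ₗ h⟩

/-- The cohomology modules of the represented object. -/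
theorem nonempty_HD_equiv {K : Dual.D A} (e : DerivedCategory.Q.obj C ≅ K) {j i k : ℤ} (hj : j + 1 = i)
    (hk : i + 1 = k) : Nonempty (Dual.HD A K i ≃ₗ[A] Hc C (topC C) j i k) := by
  have hj' : (ComplexShape.up ℤ).prev i = j := by simp; omega
  have hk' : (ComplexShape.up ℤ).next i = k := by simp; omega
  choose z hz using fun x : Zc C (topC C) i k => Groth.BiextChow.exists_cycle C hk' x.1 x.2.2
  let φ : Zc C (topC C) i k →ₗ[A] C.homology i :=
    { toFun := fun x => (C.homologyπ i).hom (z x)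
      map_add' := fun x y => by
        rw [← map_add]
        congr 1
        apply Groth.BiextChow.iCycles_injective
        rw [map_add, hz, hz, hz]
        rfl
      map_smul' := fun r x => by
        rw [RingHom.id_apply, ← map_smul]
        congr 1
        apply Groth.BiextChow.iCycles_injective
        rw [map_smul, hz, hz]
        rfl }
  have hker : ∀ x, φ x = 0 ↔ x.1 ∈ Bc C (topC C) j i := fun x => by
    refine (Groth.BiextChow.homologyπ_eq_zero_iff C hj' (z x)).trans ?_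
    rw [hz]
    exact ⟨fun ⟨w, hw⟩ => mem_Bc.2 ⟨w, Submodule.mem_top, hw⟩, fun h => (mem_Bc.1 h).imp fun _ h => h.2⟩
  have hsurj : Function.Surjective φ := fun t => by
    obtain ⟨c, rfl⟩ := Groth.BiextChow.homologyπ_surjective C i t
    refine ⟨⟨(C.iCycles i).hom c, Submodule.mem_top, Groth.BiextChow.d_iCycles C i k c⟩, ?_⟩
    show (C.homologyπ i).hom _ = _
    congr 1
    apply Groth.BiextChow.iCycles_injective
    rw [hz]
  have hk0 : (Bc C (topC C) j i).comap (Zc C (topC C) i k).subtype = LinearMap.ker φ := by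
    ext x
    exact (hker x).symm
  exact ⟨((DerivedCategory.homologyFunctor (ModuleCat.{u} A) i).mapIso e.symm ≪≫
      (DerivedCategory.homologyFunctorFactors (ModuleCat.{u} A) i).app C).toLinearEquiv.trans
    ((Submodule.quotEquivOfEq _ _ hk0).trans (φ.quotKerEquivOfSurjective hsurj)).symm⟩

end Groth.SuppCx
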